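import Cfsg.Agent.Lib.IcosianGroup.Tables
import Cfsg.Agent.Lib.JTwoPerm.Data

/-!
# The stabiliser chain of the joint action on 315 lines and a hundred points

The big level is checked in slices, so that no single kernel check needs much memory.

* `joint_ok`
-/

set_option autoImplicit false
set_option maxRecDepth 100000
set_option Elab.async false

namespace Cfsg.Agent.IcoGroup

open Cfsg.Agent.StabCert

/-- A level moved to the point part. -/
def shiftLev (L : Lev) : Lev := { L with b := 315 + L.b }

theorem certAll_split {w : ℕ} {tab B next : List ℕ} {words : List (List ℕ)} :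
    ∀ (n : ℕ) (ls : List (List ℕ)) (cs : List (ℕ × List ℕ)),
      certAll w tab B next words (ls.take n) (cs.take n) = true →
      certAll w tab B next words (ls.drop n) (cs.drop n) = true → certAll w tab B next words ls cs = true
  | 0, _, _, _, h => h
  | _ + 1, [], _, _, _ => rfl
  | _ + 1, _ :: _, [], h, _ => h
  | n + 1, l :: ls, c :: cs, h, h' => by
    simp only [List.take_succ_cons, List.drop_succ_cons, certAll, Bool.and_eq_true] at h h' ⊢
    exact ⟨h.1, certAll_split n ls cs h.2 h'⟩

/-- A slice of the certificate of the first level. -/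
def slice (a n : ℕ) : Bool :=
  certAll 9 sixTab (List.range 415) (nextGens [shiftLev JTwoPerm.lev1]) (shiftLev JTwoPerm.lev0).words
    ((((shiftLev JTwoPerm.lev0).gens.flatMap fun g =>
      (shiftLev JTwoPerm.lev0).words.map fun l => g :: l).drop a).take n)
    (((shiftLev JTwoPerm.lev0).cert.drop a).take n)

theorem slice0 : slice 0 120 = true := by decide +kernel

theorem slice1 : slice 120 120 = true := by decide +kernel

theorem slice2 : slice 240 120 = true := by decide +kernel

theorem slice3 : slice 360 120 = true := by decide +kernel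

theorem slice_last :
    certAll 9 sixTab (List.range 415) (nextGens [shiftLev JTwoPerm.lev1]) (shiftLev JTwoPerm.lev0).words
      (((shiftLev JTwoPerm.lev0).gens.flatMap fun g =>
        (shiftLev JTwoPerm.lev0).words.map fun l => g :: l).drop 480)
      ((shiftLev JTwoPerm.lev0).cert.drop 480) = true := by decide +kernel

/-- The first level is down to its certificate. -/
theorem lev0_shape :
    levOK 9 415 6 sixTab (List.range 415) (nextGens [shiftLev JTwoPerm.lev1]) (shiftLev JTwoPerm.lev0) =
      certAll 9 sixTab (List.range 415) (nextGens [shiftLev JTwoPerm.lev1]) (shiftLev JTwoPerm.lev0).words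
        ((shiftLev JTwoPerm.lev0).gens.flatMap fun g => (shiftLev JTwoPerm.lev0).words.map fun l => g :: l)
        (shiftLev JTwoPerm.lev0).cert := by
  have h : (Nat.blt (shiftLev JTwoPerm.lev0).b 415 && ((shiftLev JTwoPerm.lev0).gens.all fun k => Nat.blt k 6) &&
    ((nextGens [shiftLev JTwoPerm.lev1]).all fun k => (shiftLev JTwoPerm.lev0).gens.contains k &&
      look 9 (sixTab.getD k 0) (shiftLev JTwoPerm.lev0).b == (shiftLev JTwoPerm.lev0).b) &&
    ((shiftLev JTwoPerm.lev0).words.all fun l => l.all fun k => (shiftLev JTwoPerm.lev0).gens.contains k) &&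
    ((shiftLev JTwoPerm.lev0).words.headD [0]).isEmpty &&
    distinctFrom ((shiftLev JTwoPerm.lev0).words.map fun l => ev 9 sixTab l (shiftLev JTwoPerm.lev0).b) 0) = true := by
    decide +kernel
  rw [levOK, h, Bool.true_and]

theorem lev1_ok : chainOK 9 415 6 sixTab (List.range 415)
    [shiftLev JTwoPerm.lev1, shiftLev JTwoPerm.lev2, shiftLev JTwoPerm.lev3] = true := by
  decide +kernel

theorem joint_ok : chainOK 9 415 6 sixTab (List.range 415)
    [shiftLev JTwoPerm.lev0, shiftLev JTwoPerm.lev1, shiftLev JTwoPerm.lev2, shiftLev JTwoPerm.lev3] = true := by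
  rw [chainOK, Bool.and_eq_true]
  refine ⟨?_, lev1_ok⟩
  rw [show nextGens [shiftLev JTwoPerm.lev1, shiftLev JTwoPerm.lev2, shiftLev JTwoPerm.lev3] =
    nextGens [shiftLev JTwoPerm.lev1] from rfl, lev0_shape]
  refine certAll_split 120 _ _ slice0 (certAll_split 120 _ _ ?_ (certAll_split 120 _ _ ?_
    (certAll_split 120 _ _ ?_ ?_)))
  · exact slice1
  · rw [List.drop_drop, List.drop_drop]
    exact slice2
  · simp only [List.drop_drop]
    exact slice3
  · simp only [List.drop_drop]
    exact slice_last

end Cfsg.Agent.IcoGroup
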