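import Cfsg.Agent.Lib.Icosian.Group
import Cfsg.Agent.Lib.IcosianGroup.Tables
import Cfsg.Agent.Lib.IcosianGroup.JointChain
import Cfsg.Agent.Lib.JTwoPerm.Basic

/-!
# The icosian `J2` is the Hall-Janko group on a hundred points

* `jointGroup`  : the pairs of actions on lines and points; `card_jointGroup`
* `equivJTwo`   : `J2 ≃* JTwoPerm.jTwo`, from the group on 315 lines of `Lib/Icosian`
-/

set_option autoImplicit false
set_option maxRecDepth 100000

namespace Cfsg.Agent.IcoGroup

open Cfsg.Spor Cfsg.Agent.StabCert Cfsg.Agent.Ico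

/-- Pairs of permutations. -/
abbrev PP : Type := Equiv.Perm (Fin 315) × Equiv.Perm (Fin 100)

/-- The action on lines and points together. -/
noncomputable def rho : PP →* Equiv.Perm (Fin 315 ⊕ Fin 100) := Equiv.Perm.sumCongrHom (Fin 315) (Fin 100)

theorem rho_inl (g : PP) (x : Fin 315) : rho g (Sum.inl x) = Sum.inl (g.1 x) := rfl

theorem rho_inr (g : PP) (x : Fin 100) : rho g (Sum.inr x) = Sum.inr (g.2 x) := rfl

/-- The points by number. -/
def pt (i : ℕ) : Fin 315 ⊕ Fin 100 :=
  if i < 315 then Sum.inl (Fin.ofNat 315 i) else Sum.inr (JTwoPerm.pt (i - 315))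

theorem pt_inl (x : Fin 315) : pt x.val = Sum.inl x := by
  rw [pt, if_pos x.isLt]
  exact congrArg Sum.inl (Fin.ext (Nat.mod_eq_of_lt x.isLt))

theorem pt_inr (x : Fin 100) : pt (315 + x.val) = Sum.inr x := by
  rw [pt, if_neg (by omega)]
  exact congrArg Sum.inr (by rw [Nat.add_sub_cancel_left, JTwoPerm.pt_val])

theorem pt_injOn : Set.InjOn pt {i | i < 415} := by
  intro i hi j hj e
  simp only [Set.mem_ofPred_eq] at hi hj
  unfold pt at e
  split_ifs at e with h1 h2 h2
  · have := congrArg Fin.val (Sum.inl.inj e)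
    simp only [Fin.val_ofNat, Nat.mod_eq_of_lt h1, Nat.mod_eq_of_lt h2] at this
    exact this
  · have := JTwoPerm.pt_injOn (show i - 315 < 100 by omega) (show j - 315 < 100 by omega) (Sum.inr.inj e)
    omega

/-- The line permutation of the `k`-th reflection; the identity beyond. -/
noncomputable def four (k : ℕ) : Equiv.Perm (Fin 315) :=
  if h : k < 4 then lineHom (genEl ⟨k, h⟩) else 1

theorem four_ok : ((List.range 4).all fun k => (List.range 315).all fun i =>
    Nat.beq (look 9 (fourTab.getD k 0) i) (genImg (Fin.ofNat 4 k) (Fin.ofNat 315 i)).val) = true := by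
  decide +kernel

theorem four_sound : TablesSound (MonoidHom.id (Equiv.Perm (Fin 315))) four (Fin.ofNat 315) 9 315 4 fourTab := by
  intro k hk i hi
  have h := List.all_eq_true.1 (List.all_eq_true.1 four_ok k (List.mem_range.2 hk)) i (List.mem_range.2 hi)
  rw [Nat.beq_eq] at h
  rw [h]
  refine ⟨Fin.isLt _, ?_⟩
  rw [MonoidHom.id_apply, four, dif_pos hk, lineHom_genEl]
  refine Fin.ext ?_
  rw [show (Fin.ofNat 4 k : Fin 4) = ⟨k, hk⟩ from Fin.ext (Nat.mod_eq_of_lt hk)]
  simp

/-- The six generators as pairs. -/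
noncomputable def six (k : ℕ) : PP := (wordEl four (sixWords.getD k []), JTwoPerm.gen k)

theorem six_ok : ((List.range 6).all fun k => (sixWords.getD k []).all (fun a => Nat.blt a 4) &&
    (List.range 315).all fun i =>
      Nat.beq (look 9 (sixTab.getD k 0) i) (ev 9 fourTab (sixWords.getD k []) i)) = true := by
  decide +kernel

theorem six_right_ok : ((List.range 6).all fun k => (List.range 100).all fun i =>
    Nat.beq (look 9 (sixTab.getD k 0) (315 + i)) (315 + look 7 (JTwoPerm.tab.getD k 0) i)) = true := by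
  decide +kernel

theorem six_sound : TablesSound rho six pt 9 415 6 sixTab := by
  intro k hk i hi
  have h := List.all_eq_true.1 six_ok k (List.mem_range.2 hk)
  simp only [Bool.and_eq_true, List.all_eq_true, Nat.blt_eq, Nat.beq_eq, List.mem_range] at h
  rcases Nat.lt_or_ge i 315 with hl | hl
  · obtain ⟨h1, h2⟩ := ev_spec four_sound _ h.1 i hl
    rw [h.2 i hl]
    refine ⟨by omega, ?_⟩
    have hi' : (Fin.ofNat 315 i : Fin 315).val = i := Nat.mod_eq_of_lt hl
    rw [pt, if_pos hl, rho_inl, pt, if_pos h1]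
    exact congrArg Sum.inl h2
  · have hr := List.all_eq_true.1 (List.all_eq_true.1 six_right_ok k (List.mem_range.2 hk)) (i - 315)
      (List.mem_range.2 (by omega))
    rw [Nat.beq_eq, Nat.add_sub_cancel' hl] at hr
    obtain ⟨h1, h2⟩ := JTwoPerm.sound k hk (i - 315) (by omega)
    rw [hr]
    refine ⟨by omega, ?_⟩
    rw [pt, if_neg (by omega), rho_inr, pt, if_neg (by omega), Nat.add_sub_cancel_left]
    exact congrArg Sum.inr h2

theorem faithful (g : PP) (h : ∀ β ∈ List.range 415, rho g (pt β) = pt β) : g = 1 := by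
  refine Prod.ext (Equiv.ext fun x => ?_) (Equiv.ext fun x => ?_)
  · have e := h x.val (List.mem_range.2 (by omega))
    rw [pt_inl, rho_inl] at e
    exact Sum.inl.inj e
  · have e := h (315 + x.val) (List.mem_range.2 (by omega))
    rw [pt_inr, rho_inr] at e
    exact Sum.inr.inj e

/-- The group generated by the six pairs. -/
noncomputable def jointGroup : Subgroup PP := sub six (List.range 6)

theorem card_jointGroup : Nat.card jointGroup = 604800 := by
  have h := chain_spec (ρ := rho) six_sound pt_injOn (fun β hβ => List.mem_range.1 hβ)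
    (fun g _ hg => faithful g hg) _ joint_ok
  have hgens : nextGens [shiftLev JTwoPerm.lev0, shiftLev JTwoPerm.lev1, shiftLev JTwoPerm.lev2,
      shiftLev JTwoPerm.lev3] = List.range 6 := by decide
  rw [hgens] at h
  rw [jointGroup, h.2.1]
  decide +kernel

theorem map_snd : jointGroup.map (MonoidHom.snd _ _) = JTwoPerm.jTwo := by
  rw [jointGroup, JTwoPerm.jTwo, StabCert.sub, StabCert.sub, MonoidHom.map_closure, Set.image_image]
  rfl

/-- The projection to the points. -/
noncomputable def toPoints : jointGroup →* JTwoPerm.jTwo :=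
  ((MonoidHom.snd _ _).comp jointGroup.subtype).codRestrict JTwoPerm.jTwo fun x =>
    map_snd ▸ ⟨x.1, x.2, rfl⟩

theorem toPoints_bijective : Function.Bijective toPoints := by
  refine (Nat.bijective_iff_surjective_and_card toPoints).2 ⟨fun y => ?_, ?_⟩
  · have h : (y : Equiv.Perm (Fin 100)) ∈ jointGroup.map (MonoidHom.snd _ _) := map_snd.symm ▸ y.2
    obtain ⟨x, hx, e⟩ := h
    exact ⟨⟨x, hx⟩, Subtype.ext e⟩
  · rw [card_jointGroup, JTwoPerm.natCard_jTwo]

theorem four_words_ok : ((List.range 4).all fun k => (fourWords.getD k []).all (fun a => Nat.blt a 6) &&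
    (List.range 315).all fun i =>
      Nat.beq (look 9 (fourTab.getD k 0) i) (ev 9 sixTab (fourWords.getD k []) i)) = true := by
  decide +kernel

theorem range_le_of_genEl {K : Subgroup (Equiv.Perm (Fin 315))} (h : ∀ k, lineHom (genEl k) ∈ K) :
    lineHom.range ≤ K := by
  rintro _ ⟨⟨g, hg⟩, rfl⟩
  refine twoJ2_induction (P := fun g => ∀ h' : g ∈ twoJ2, lineHom ⟨g, h'⟩ ∈ K)
    (fun h' => by
      rw [show (⟨1, h'⟩ : twoJ2) = 1 from rfl, map_one]
      exact one_mem _)
    (fun k f hf h' => ?_) hg hg
  have hfm : f ∈ twoJ2 := by simpa using mul_mem (inv_mem (reflPerm_mem (gen k))) h'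
  rw [show (⟨_, h'⟩ : twoJ2) = genEl k * ⟨f, hfm⟩ from rfl, map_mul]
  exact mul_mem (h k) (hf hfm)

theorem map_fst : jointGroup.map (MonoidHom.fst _ _) = lineHom.range := by
  refine le_antisymm ?_ ?_
  · rw [jointGroup, StabCert.sub, MonoidHom.map_closure, Subgroup.closure_le]
    rintro _ ⟨_, ⟨k, -, rfl⟩, rfl⟩
    refine Subgroup.list_prod_mem _ fun x hx => ?_
    obtain ⟨a, -, rfl⟩ := List.mem_map.1 hx
    rw [four]
    split_ifs
    · exact ⟨_, rfl⟩
    · exact one_mem _
  · refine range_le_of_genEl fun k => ?_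
    have h := List.all_eq_true.1 four_words_ok k.val (List.mem_range.2 k.isLt)
    simp only [Bool.and_eq_true, List.all_eq_true, Nat.blt_eq, Nat.beq_eq, List.mem_range] at h
    refine ⟨wordEl six (fourWords.getD k.val []), wordEl_mem six fun a ha => List.mem_range.2 (h.1 a ha), ?_⟩
    refine Equiv.ext fun x => ?_
    obtain ⟨-, e2⟩ := ev_spec six_sound _ h.1 x.val (by omega)
    have f2 := (four_sound k.val k.isLt x.val x.isLt).2
    have hxe : (Fin.ofNat 315 x.val : Fin 315) = x := Fin.ext (Nat.mod_eq_of_lt x.isLt)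
    have hlt : look 9 (fourTab.getD k.val 0) x.val < 315 := (four_sound k.val k.isLt x.val x.isLt).1
    rw [← h.2 x.val x.isLt, pt_inl, rho_inl, pt, if_pos hlt] at e2
    rw [MonoidHom.id_apply, four, dif_pos k.isLt, hxe] at f2
    show (wordEl six (fourWords.getD k.val [])).1 x = lineHom (genEl k) x
    rw [Sum.inl.inj e2, f2]

/-- The projection to the lines. -/
noncomputable def toLines : jointGroup →* lineHom.range :=
  ((MonoidHom.fst _ _).comp jointGroup.subtype).codRestrict lineHom.range fun x =>
    map_fst ▸ ⟨x.1, x.2, rfl⟩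

theorem isSimpleGroup_jointGroup : IsSimpleGroup jointGroup :=
  have := JTwoPerm.isSimpleGroup_jTwo
  have : Nontrivial jointGroup := Finite.one_lt_card_iff_nontrivial.1 (by rw [card_jointGroup]; norm_num)
  IsSimpleGroup.isSimpleGroup_of_surjective (MulEquiv.ofBijective toPoints toPoints_bijective).symm.toMonoidHom
    (MulEquiv.ofBijective toPoints toPoints_bijective).symm.surjective

theorem toLines_surjective : Function.Surjective toLines := fun y => by
  have h : (y : Equiv.Perm (Fin 315)) ∈ jointGroup.map (MonoidHom.fst _ _) := map_fst.symm ▸ y.2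
  obtain ⟨x, hx, e⟩ := h
  exact ⟨⟨x, hx⟩, Subtype.ext e⟩

theorem toLines_bijective : Function.Bijective toLines := by
  refine ⟨?_, toLines_surjective⟩
  have := isSimpleGroup_jointGroup
  rw [← MonoidHom.ker_eq_bot_iff]
  refine (IsSimpleGroup.eq_bot_or_eq_top_of_normal toLines.ker inferInstance).resolve_right fun h => ?_
  have htriv : ∀ y : lineHom.range, y = 1 := fun y => by
    obtain ⟨x, rfl⟩ := toLines_surjective y
    exact MonoidHom.mem_ker.1 (h ▸ Subgroup.mem_top x)
  have h0 := htriv ⟨lineHom (genEl 0), _, rfl⟩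
  have h1 : lineHom (genEl 0) (0 : Fin 315) = 0 := by
    rw [show lineHom (genEl 0) = 1 from congrArg Subtype.val h0]; rfl
  rw [lineHom_genEl] at h1
  revert h1
  decide +kernel

/-- `J2` as the group on a hundred points. -/
noncomputable def equivJTwo : J2 ≃* JTwoPerm.jTwo :=
  j2Equiv.trans ((MulEquiv.ofBijective toLines toLines_bijective).symm.trans
    (MulEquiv.ofBijective toPoints toPoints_bijective))


end Cfsg.Agent.IcoGroup
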