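import Mathlib
import Cfsg.Agent.EqLemmas

/-!
# Maximal point stabilisers from suborbit lengths

* `eq_of_arith` : a subset sum of piece lengths
* `isCoatom_stabilizer_of_pieces` : the pieces are orbits of part of the stabiliser; no admissible sum of
  their lengths divides the degree, hence the action on the orbit is primitive
-/

set_option autoImplicit false

namespace Cfsg.Agent.SubPieces

open MulAction
open scoped Pointwise

/-- Sums of piece lengths dividing the degree only come from trivial unions. -/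
def Arith {k : ℕ} (n : Fin (k + 1) → ℕ) : Prop :=
  ∀ T : Finset (Fin (k + 1)), 0 ∈ T → (∑ i ∈ T, n i) ∣ (∑ i, n i) → T = {0} ∨ T = Finset.univ

instance {k : ℕ} (n : Fin (k + 1) → ℕ) : Decidable (Arith n) := by
  unfold Arith; infer_instance

theorem isCoatom_stabilizer_of_pieces {K X : Type*} [Group K] [MulAction K X] [Finite X] (a : X)
    {k : ℕ} (lab : X → Fin (k + 1)) (n : Fin (k + 1) → ℕ) (ha : lab a = 0)
    (hconn : ∀ x ∈ orbit K a, ∀ y ∈ orbit K a, lab x = lab y → ∃ g ∈ stabilizer K a, g • x = y)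
    (hn : ∀ i, (orbit K a ∩ lab ⁻¹' {i}).ncard = n i) (harith : Arith n)
    (hnt : (orbit K a).Nontrivial) : IsCoatom (stabilizer K a) := by
  classical
  let a' : orbit K a := ⟨a, mem_orbit_self a⟩
  have hst : stabilizer K a' = stabilizer K a := by
    ext g
    simp [mem_stabilizer_iff, a', Subtype.ext_iff]
  rw [← hst]
  have : Nontrivial (orbit K a) := hnt.coe_sort
  rw [isCoatom_stabilizer_iff_preprimitive K a']
  refine IsPreprimitive.of_isTrivialBlock_base (a := a') fun {B} haB hB => ?_
  let T : Finset (Fin (k + 1)) := Finset.univ.filter fun i => ∃ x ∈ B, lab x.1 = i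
  have h0 : (0 : Fin (k + 1)) ∈ T := Finset.mem_filter.2 ⟨Finset.mem_univ _, a', haB, ha⟩
  have hBT : B = Subtype.val ⁻¹' (lab ⁻¹' (T : Set (Fin (k + 1)))) := by
    ext x
    simp only [Set.mem_preimage, SetLike.mem_coe, T, Finset.mem_filter, Finset.mem_univ, true_and]
    refine ⟨fun hx => ⟨x, hx, rfl⟩, ?_⟩
    rintro ⟨y, hy, hlab⟩
    obtain ⟨g, hg, hgy⟩ := hconn y.1 y.2 x.1 x.2 hlab
    have hgB : g • B = B := by
      refine (hB.smul_eq_or_disjoint g).resolve_right fun hd => Set.disjoint_left.1 hd ?_ haB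
      exact ⟨a', haB, Subtype.ext hg⟩
    rw [← hgB]
    exact ⟨y, hy, Subtype.ext hgy⟩
  have hsum : ∀ S : Finset (Fin (k + 1)),
      (orbit K a ∩ lab ⁻¹' (S : Set (Fin (k + 1)))).ncard = ∑ i ∈ S, n i := by
    intro S
    induction S using Finset.induction_on with
    | empty => simp
    | insert i S hi ih =>
      rw [Finset.sum_insert hi, Finset.coe_insert, Set.insert_eq, Set.preimage_union, Set.inter_union_distrib_left,
        Set.ncard_union_eq, hn, ih]
      rw [Set.disjoint_left]
      rintro x ⟨-, h1⟩ ⟨-, h2⟩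
      exact hi ((Set.mem_singleton_iff.1 h1) ▸ (Finset.mem_coe.1 h2))
  have hcard : B.ncard = ∑ i ∈ T, n i := by
    rw [← hsum, hBT, ← Set.ncard_image_of_injective _ Subtype.val_injective,
      Set.image_preimage_eq_inter_range, Subtype.range_coe_subtype, Set.inter_comm]
    simp
  have htot : Nat.card (orbit K a) = ∑ i, n i := by
    rw [Nat.card_coe_set_eq, ← hsum, Finset.coe_univ, Set.preimage_univ, Set.inter_univ]
  have hdvd := hB.ncard_dvd_card ⟨a', haB⟩
  rw [hcard, htot] at hdvd
  rcases harith T h0 hdvd with hT | hT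
  · refine Or.inl fun x hx y hy => ?_
    rw [hBT, hT] at hx hy
    simp only [Set.mem_preimage, Finset.coe_singleton, Set.mem_singleton_iff] at hx hy
    have key : ∀ z : orbit K a, lab z.1 = 0 → z = a' := fun z hz => by
      obtain ⟨g, hg, e⟩ := hconn a (mem_orbit_self a) z.1 z.2 (ha.trans hz.symm)
      exact Subtype.ext (e.symm.trans hg)
    rw [key x hx, key y hy]
  · refine Or.inr ?_
    rw [hBT, hT]
    simp

end Cfsg.Agent.SubPieces
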