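import Cfsg.Agent.Lib.IcosianGroup.SpecBasic

/-!
# Groups with the element orders of `S₈`

* `range_orderOf_perm` : the element orders of `S₈`
* `ext k` : `k` copies of the six-dimensional module of `A₈` extended by `A₈`; `range_orderOf_ext`
-/

set_option autoImplicit false
set_option maxRecDepth 100000

namespace Cfsg.Agent.EightSpec

open Equiv Equiv.Perm SemidirectProduct

instance (n : ℕ) : Decidable (InSpec n) := inferInstanceAs (Decidable (∃ m ∈ maxOrders, n ∣ m))

/-- A multiset by its multiplicities of two to eight. -/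
def ofCounts (a : Fin 5) (b c : Fin 3) (d e f g : Fin 2) : Multiset ℕ :=
  Multiset.replicate a 2 + Multiset.replicate b 3 + Multiset.replicate c 4 + Multiset.replicate d 5 +
    Multiset.replicate e 6 + Multiset.replicate f 7 + Multiset.replicate g 8

theorem counts_spec : ∀ (a : Fin 5) (b c : Fin 3) (d e f g : Fin 2), (ofCounts a b c d e f g).sum ≤ 8 →
    InSpec (ofCounts a b c d e f g).lcm ∧
      (((ofCounts a b c d e f g).sum + (ofCounts a b c d e f g).card) % 2 = 0 →
        (ofCounts a b c d e f g).lcm ∈ [1, 2, 3, 4, 5, 6] ∨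
          ofCounts a b c d e f g = {7} ∨ ofCounts a b c d e f g = {5, 3}) := by
  decide +kernel

theorem exists_ofCounts {m : Multiset ℕ} (h2 : ∀ i ∈ m, 2 ≤ i) (hs : m.sum ≤ 8) :
    ∃ (a : Fin 5) (b c : Fin 3) (d e f g : Fin 2), m = ofCounts a b c d e f g := by
  have hb : ∀ i, m.count i * i ≤ 8 := fun i => by
    refine le_trans ?_ hs
    obtain ⟨r, hr⟩ := Multiset.le_iff_exists_add.1
      (Multiset.le_count_iff_replicate_le.1 (le_refl (m.count i)))
    have h := congrArg Multiset.sum hr
    rw [Multiset.sum_add, Multiset.sum_replicate, smul_eq_mul] at h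
    omega
  refine ⟨⟨m.count 2, by have := hb 2; omega⟩, ⟨m.count 3, by have := hb 3; omega⟩,
    ⟨m.count 4, by have := hb 4; omega⟩, ⟨m.count 5, by have := hb 5; omega⟩,
    ⟨m.count 6, by have := hb 6; omega⟩, ⟨m.count 7, by have := hb 7; omega⟩,
    ⟨m.count 8, by have := hb 8; omega⟩, Multiset.ext.2 fun i => ?_⟩
  have hi : m.count i = 0 ∨ (2 ≤ i ∧ i ≤ 8) := by
    by_cases h : i ∈ m
    · exact Or.inr ⟨h2 i h, (Multiset.le_sum_of_mem h).trans hs⟩
    · exact Or.inl (Multiset.count_eq_zero.2 h)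
  simp only [ofCounts, Multiset.count_add, Multiset.count_replicate]
  rcases hi with hi | ⟨hl, hr⟩
  · split_ifs <;> subst_vars <;> omega
  · interval_cases i <;> simp

theorem cycleType_cases (σ : Perm (Fin 8)) :
    InSpec σ.cycleType.lcm ∧ ((σ.cycleType.sum + σ.cycleType.card) % 2 = 0 →
      σ.cycleType.lcm ∈ [1, 2, 3, 4, 5, 6] ∨ σ.cycleType = {7} ∨ σ.cycleType = {5, 3}) := by
  have hs : σ.cycleType.sum ≤ 8 := by
    rw [sum_cycleType]; exact (Finset.card_le_univ _).trans (le_of_eq (Fintype.card_fin 8))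
  obtain ⟨a, b, c, d, e, f, g, h⟩ := exists_ofCounts (fun i hi => two_le_of_mem_cycleType hi) hs
  rw [h] at hs ⊢
  exact counts_spec a b c d e f g hs

theorem inSpec_perm (σ : Perm (Fin 8)) : InSpec (orderOf σ) := by
  rw [← lcm_cycleType]
  exact (cycleType_cases σ).1

theorem even_cases {σ : Perm (Fin 8)} (h : σ ∈ alternatingGroup (Fin 8)) :
    orderOf σ ∈ [1, 2, 3, 4, 5, 6] ∨ σ.cycleType = {7} ∨ σ.cycleType = {5, 3} := by
  rw [← lcm_cycleType]
  refine (cycleType_cases σ).2 ?_
  rw [mem_alternatingGroup, sign_of_cycleType] at h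
  rcases Nat.even_or_odd (σ.cycleType.sum + σ.cycleType.card) with he | ho
  · exact Nat.even_iff.1 he
  · rw [Odd.neg_one_pow ho] at h
    exact absurd h (by decide)

/-- A permutation from a list. -/
def tau (l l' : List (Fin 8)) : Perm (Fin 8) := l.formPerm * l'.formPerm

/-- Permutations of orders seven and fifteen, and three used for orders eight, ten and twelve. -/
def tau7 : Perm (Fin 8) := tau [0, 1, 2, 3, 4, 5, 6] []

/-- See `tau7`. -/
def tau15 : Perm (Fin 8) := tau [0, 1, 2, 3, 4] [5, 6, 7]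

theorem orderOf_taus : orderOf tau7 = 7 ∧ orderOf tau15 = 15 := by
  refine ⟨(orderOf_eq_iff (by norm_num)).2 ?_, (orderOf_eq_iff (by norm_num)).2 ?_⟩
  · refine ⟨by decide +kernel, fun m hm h0 => ?_⟩
    interval_cases m <;> decide +kernel
  · refine ⟨by decide +kernel, fun m hm h0 => ?_⟩
    interval_cases m <;> decide +kernel

theorem tau7_mem : tau7 ∈ alternatingGroup (Fin 8) := by
  rw [mem_alternatingGroup]; decide +kernel

theorem tau15_mem : tau15 ∈ alternatingGroup (Fin 8) := by
  rw [mem_alternatingGroup]; decide +kernel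

theorem cycleType_tau7 : tau7.cycleType = {7} := by
  rcases even_cases tau7_mem with h | h | h
  · rw [orderOf_taus.1] at h; simp at h
  · exact h
  · have := lcm_cycleType tau7
    rw [h, orderOf_taus.1] at this
    exact absurd this (by decide)

theorem cycleType_tau15 : tau15.cycleType = {5, 3} := by
  rcases even_cases tau15_mem with h | h | h
  · rw [orderOf_taus.2] at h; simp at h
  · have := lcm_cycleType tau15
    rw [h, orderOf_taus.2] at this
    exact absurd this (by decide)
  · exact h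

/-- The zero-sum functions invariant up to a constant are constant. -/
def Good (σ : Perm (Fin 8)) : Prop :=
  ∀ f : Fin 8 → ZMod 2, ∑ i, f i = 0 → ∀ c : ZMod 2, (∀ i, f (σ i) = f i + c) → ∀ i, f i = f 0

theorem good_taus : Good tau7 ∧ Good tau15 := by
  constructor <;> (unfold Good; decide +kernel)

theorem good_of_isConj {σ τ : Perm (Fin 8)} (h : IsConj τ σ) (hg : Good τ) : Good σ := by
  obtain ⟨π, rfl⟩ := isConj_iff.1 h
  intro f hsum c hc i
  have h1 := hg (fun j => f (π j)) (by rw [Equiv.sum_comp π f]; exact hsum) c (fun j => by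
    have := hc (π j)
    simpa [Perm.mul_apply, Perm.inv_def] using this)
  have a := h1 (π⁻¹ i)
  have b := h1 (π⁻¹ 0)
  simp only [Perm.inv_def, Equiv.apply_symm_apply] at a b
  rw [a, b]

theorem good_of_order {σ : Perm (Fin 8)} (h : σ ∈ alternatingGroup (Fin 8))
    (ho : orderOf σ ∉ [1, 2, 3, 4, 5, 6]) : Good σ := by
  rcases even_cases h with h' | h' | h'
  · exact absurd h' ho
  · exact good_of_isConj (isConj_iff_cycleType_eq.2 (cycleType_tau7.trans h'.symm)) good_taus.1
  · exact good_of_isConj (isConj_iff_cycleType_eq.2 (cycleType_tau15.trans h'.symm)) good_taus.2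

/-- Functions on pairs of points. -/
abbrev Y : Type := Fin 8 × Fin 8 → Multiplicative (ZMod 2)

/-- `k` copies. -/
abbrev X (k : ℕ) : Type := Fin k → Y

/-- The alternating group of degree eight. -/
abbrev A8 : Type := alternatingGroup (Fin 8)

/-- Moving a function on pairs. -/
def act : A8 →* MulAut Y where
  toFun σ :=
    { toFun := fun y p => y (σ.1.symm p.1, σ.1.symm p.2)
      invFun := fun y p => y (σ.1 p.1, σ.1 p.2)
      left_inv := fun y => funext fun p => by simp
      right_inv := fun y => funext fun p => by simp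
      map_mul' := fun _ _ => rfl }
  map_one' := rfl
  map_mul' _ _ := rfl

/-- Moving every copy. -/
def actPi (k : ℕ) : A8 →* MulAut (X k) where
  toFun σ := MulEquiv.piCongrRight fun _ => act σ
  map_one' := rfl
  map_mul' _ _ := rfl

/-- A function on pairs coming from a zero-sum function. -/
def OfEven (y : Y) : Prop :=
  ∃ f : Fin 8 → ZMod 2, ∑ i, f i = 0 ∧ ∀ i j, Multiplicative.toAdd (y (i, j)) = f i + f j

theorem ofEven_one : OfEven 1 := ⟨0, by simp, fun i j => by simp⟩

theorem ofEven_mul {y z : Y} (hy : OfEven y) (hz : OfEven z) : OfEven (y * z) := by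
  obtain ⟨f, hf, hf'⟩ := hy
  obtain ⟨g, hg, hg'⟩ := hz
  refine ⟨f + g, by simp [Finset.sum_add_distrib, hf, hg], fun i j => ?_⟩
  rw [Pi.mul_apply, toAdd_mul, hf', hg', Pi.add_apply, Pi.add_apply]
  abel

theorem ofEven_inv {y : Y} (hy : OfEven y) : OfEven y⁻¹ := by
  obtain ⟨f, hf, hf'⟩ := hy
  refine ⟨-f, by simp [hf], fun i j => ?_⟩
  rw [Pi.inv_apply, toAdd_inv, hf', Pi.neg_apply, Pi.neg_apply, neg_add]

theorem ofEven_act (σ : A8) {y : Y} (hy : OfEven y) : OfEven (act σ y) := by
  obtain ⟨f, hf, hf'⟩ := hy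
  exact ⟨fun i => f (σ.1.symm i), by rw [Equiv.sum_comp σ.1.symm f]; exact hf, fun i j => hf' _ _⟩

/-- The extension. -/
def ext (k : ℕ) : Subgroup (X k ⋊[actPi k] A8) where
  carrier := {g | ∀ t, OfEven (g.left t)}
  one_mem' _ := ofEven_one
  mul_mem' {a _} ha hb t := ofEven_mul (ha t) (ofEven_act a.right (hb t))
  inv_mem' {a} ha t := ofEven_act a.right⁻¹ (ofEven_inv (ha t))

theorem sq_eq_one {k : ℕ} (y : X k) : y * y = 1 :=
  funext fun t => funext fun p =>
    Multiplicative.toAdd.injective (CharTwo.add_self_eq_zero (Multiplicative.toAdd (y t p)))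

theorem two_mul_small : ∀ o ∈ [1, 2, 3, 4, 5, 6], InSpec (2 * o) := by decide +kernel

theorem eq_one_of_fixed {y : Y} {σ : A8} (hy : OfEven y) (hgood : Good σ.1.symm) (h : act σ y = y) :
    y = 1 := by
  obtain ⟨f, hf, hf'⟩ := hy
  have hc : ∀ i, f (σ.1.symm i) = f i + (f (σ.1.symm 0) + f 0) := by
    intro i
    have e1 : f (σ.1.symm i) + f (σ.1.symm 0) = f i + f 0 := by
      rw [← hf', ← hf']
      exact congrArg Multiplicative.toAdd (congrFun h (i, 0))
    revert e1
    generalize f (σ.1.symm i) = a, f (σ.1.symm 0) = b, f i = c, f 0 = d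
    revert a b c d
    decide
  have hconst := hgood f hf _ hc
  refine funext fun p => Multiplicative.toAdd.injective ?_
  rw [show p = (p.1, p.2) from rfl, hf', hconst p.1, hconst p.2, CharTwo.add_self_eq_zero]
  rfl

theorem inSpec_ext {k : ℕ} (g : ext k) : InSpec (orderOf g) := by
  rw [← Subgroup.orderOf_coe]
  obtain ⟨g, hg⟩ := g
  have hr : (g ^ orderOf g.right).right = 1 := by
    rw [← rightHom_eq_right, map_pow, rightHom_eq_right, pow_orderOf_eq_one]
  have hsq : g ^ (2 * orderOf g.right) = 1 := by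
    rw [mul_comm, pow_mul, pow_two]
    refine SemidirectProduct.ext ?_ ?_
    · rw [mul_left, hr, map_one, MulAut.one_apply, sq_eq_one, one_left]
    · rw [mul_right, hr, one_mul, one_right]
  by_cases ho : orderOf g.right ∈ [1, 2, 3, 4, 5, 6]
  · obtain ⟨m, hm, hd⟩ := two_mul_small _ ho
    exact ⟨m, hm, (orderOf_dvd_of_pow_eq_one hsq).trans hd⟩
  · have hgood : Good g.right.1.symm := by
      refine good_of_order (σ := g.right.1.symm) (inv_mem g.right.2) ?_
      rw [← Perm.inv_def, orderOf_inv, Subgroup.orderOf_coe]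
      exact ho
    have hcomm := congrArg SemidirectProduct.left ((Commute.self_pow g (orderOf g.right)).eq)
    rw [mul_left, mul_left, hr, map_one, MulAut.one_apply, mul_comm _ g.left, mul_right_inj] at hcomm
    have hmem : g ^ orderOf g.right ∈ ext k := pow_mem hg _
    have hone : g ^ orderOf g.right = 1 := SemidirectProduct.ext
      (funext fun t => eq_one_of_fixed (hmem t) hgood (congrFun hcomm t)) hr
    obtain ⟨m, hm, hd⟩ := inSpec_perm g.right.1
    rw [Subgroup.orderOf_coe] at hd
    exact ⟨m, hm, (orderOf_dvd_of_pow_eq_one hone).trans hd⟩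

/-- The function on pairs of the sum of two basis functions. -/
def pairFun (a b : Fin 8) : Y := fun p =>
  Multiplicative.ofAdd ((if p.1 = a ∨ p.1 = b then 1 else 0) + (if p.2 = a ∨ p.2 = b then 1 else 0))

theorem ofEven_pairFun {a b : Fin 8} (h : a ≠ b) : OfEven (pairFun a b) := by
  refine ⟨fun i => if i = a ∨ i = b then 1 else 0, ?_, fun _ _ => rfl⟩
  revert a b
  decide +kernel

/-- The diagonal copy. -/
def diag (k : ℕ) : Y ⋊[act] A8 →* X k ⋊[actPi k] A8 :=
  SemidirectProduct.map (Pi.constMonoidHom (Fin k) Y) (MonoidHom.id A8) fun _ => rfl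

theorem diag_injective (k : ℕ) [NeZero k] : Function.Injective (diag k) := by
  intro a b e
  exact SemidirectProduct.ext (congrFun (congrArg SemidirectProduct.left e) 0)
    (congrArg (fun x : X k ⋊[actPi k] A8 => x.right) e)

theorem orderOf_eq_of_checks {G : Type*} [Monoid G] {x : G} {m : ℕ} (hm : 0 < m) (h1 : x ^ m = 1)
    (h2 : ∀ k : Fin m, 0 < k.val → x ^ k.val ≠ 1) : orderOf x = m :=
  (orderOf_eq_iff hm).2 ⟨h1, fun k hk h0 => h2 ⟨k, hk⟩ h0⟩

/-- An element of order eight, ten or twelve on the module side. -/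
def w8 : A8 := ⟨tau [0, 1, 2, 3] [4, 5], mem_alternatingGroup.2 (by decide +kernel)⟩

/-- See `w8`. -/
def w10 : A8 := ⟨tau [0, 1, 2, 3, 4] [], mem_alternatingGroup.2 (by decide +kernel)⟩

/-- See `w8`. -/
def w12 : A8 := ⟨tau [0, 1, 2] [3, 4] * tau [5, 6] [], mem_alternatingGroup.2 (by decide +kernel)⟩

/-- The five witnesses. -/
def witness : List (ℕ × (Y ⋊[act] A8)) :=
  [(7, ⟨1, ⟨tau7, tau7_mem⟩⟩), (8, ⟨pairFun 0 6, w8⟩), (10, ⟨pairFun 0 5, w10⟩),
    (12, ⟨pairFun 0 3, w12⟩), (15, ⟨1, ⟨tau15, tau15_mem⟩⟩)]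

theorem witness_ok : ∀ p ∈ witness, 0 < p.1 ∧ (p.2 ^ p.1).left = 1 ∧ (p.2 ^ p.1).right = 1 ∧
    ∀ k : Fin p.1, 0 < k.val → (p.2 ^ k.val).left ≠ 1 ∨ (p.2 ^ k.val).right ≠ 1 := by
  decide +kernel

theorem witness_orders : ∀ p ∈ witness, orderOf p.2 = p.1 ∧ OfEven p.2.left := by
  intro p hp
  obtain ⟨hm, c1, c2, c3⟩ := witness_ok p hp
  refine ⟨orderOf_eq_of_checks hm (SemidirectProduct.ext c1 c2) fun k hk e => ?_, ?_⟩
  · rcases c3 k hk with h | h <;> exact h (by rw [e]; rfl)
  · simp only [witness, List.mem_cons, List.not_mem_nil, or_false] at hp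
    rcases hp with rfl | rfl | rfl | rfl | rfl
    · exact ofEven_one
    · exact ofEven_pairFun (by decide)
    · exact ofEven_pairFun (by decide)
    · exact ofEven_pairFun (by decide)
    · exact ofEven_one

theorem range_orderOf_ext (k : ℕ) [NeZero k] :
    Set.range (orderOf : ext k → ℕ) = {n | InSpec n} := by
  refine range_orderOf_eq inSpec_ext fun m hm => ?_
  have hlist : maxOrders = witness.map Prod.fst := rfl
  rw [hlist, List.mem_map] at hm
  obtain ⟨p, hp, rfl⟩ := hm
  obtain ⟨ho, he⟩ := witness_orders p hp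
  refine ⟨⟨diag k p.2, fun _ => he⟩, ?_⟩
  rw [← Subgroup.orderOf_coe, orderOf_injective _ (diag_injective k), ho]

instance (k : ℕ) : Finite (X k ⋊[actPi k] A8) :=
  Finite.of_injective (fun g => (g.left, g.right)) fun a b e =>
    SemidirectProduct.ext (congrArg Prod.fst e) (congrArg Prod.snd e)

theorem two_pow_le_card_ext (k : ℕ) : 2 ^ k ≤ Nat.card (ext k) := by
  let F : (Fin k → Bool) → ext k := fun b => ⟨⟨fun t => if b t then pairFun 0 1 else 1, 1⟩, fun t => by
    show OfEven (if b t then pairFun 0 1 else 1)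
    split
    · exact ofEven_pairFun (by decide)
    · exact ofEven_one⟩
  have hF : Function.Injective F := by
    intro b c e
    have e' : (F b).1.left = (F c).1.left := by rw [e]
    refine funext fun t => ?_
    have := congrFun (congrFun e' t) (0, 2)
    simp only [F] at this
    revert this
    cases b t <;> cases c t <;> intro e'' <;> first | rfl | exact absurd e'' (by decide)
  simpa [Nat.card_eq_fintype_card] using Nat.card_le_card_of_injective F hF

theorem range_orderOf_perm : Set.range (orderOf : Perm (Fin 8) → ℕ) = {n | InSpec n} := by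
  refine range_orderOf_eq inSpec_perm fun m hm => ?_
  fin_cases hm
  · exact ⟨tau7, orderOf_taus.1⟩
  · exact ⟨tau [0, 1, 2, 3, 4, 5, 6, 7] [], orderOf_eq_of_checks (by norm_num) (by decide +kernel)
      (by decide +kernel)⟩
  · exact ⟨tau [0, 1, 2, 3, 4] [5, 6], orderOf_eq_of_checks (by norm_num) (by decide +kernel)
      (by decide +kernel)⟩
  · exact ⟨tau [0, 1, 2] [3, 4, 5, 6], orderOf_eq_of_checks (by norm_num) (by decide +kernel)
      (by decide +kernel)⟩
  · exact ⟨tau15, orderOf_taus.2⟩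

end Cfsg.Agent.EightSpec
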