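import Cfsg.Agent.Lib.SuzGTwo.Iso
import Cfsg.Agent.Lib.IcosianGroup.Blocks
import Cfsg.Agent.Lib.IcosianGroup.GTwoData
import Cfsg.Agent.Lib.IcosianGroup.Hundred

/-!
# `J2` as a point stabiliser of `G₂(4)` on 416 points

* `stab_eq` : the subgroup `⟨a, …, e⟩` of `⟨a, …, f⟩` is a point stabiliser in the action on the table
* `nonempty_base_equiv` : it is isomorphic to `J2`
* `isCoatom_base`, `isCoatom_inter` : it is maximal and its intersections with conjugates are maximal in it
-/

set_option autoImplicit false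
set_option maxRecDepth 100000

namespace Cfsg.Agent.JTwoInGTwo

open Cfsg.Lie MulAction Cfsg.Agent.CosetEnum Cfsg.Agent.SuzGTwo

/-- Generators of the subgroup of index 416. -/
def five : List (FreeGroup Six) := [wa, wb, wc, wd, we]

theorem table : Setup.Table sixSetup suz_lvl0 five := by
  have h0 := Setup.seed_fixes_id (hs := five) sixSetup_gens six_letters suz_lvl0_seed0_check
    (by decide +kernel)
  refine Setup.Table.mk' (ext := [suz_lvl0_seed0.tgt]) sixSetup_gens suz_lvl0_check (by decide +kernel)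
    fun w hw => ?_
  rw [List.mem_singleton.1 hw]
  exact h0

theorem table_n : suz_lvl0.n = 416 := rfl

/-- The points. -/
abbrev Pt : Type := Fin suz_lvl0.n

/-- The group. -/
abbrev GSix : Type := sixSetup.G

/-- The representation on the points. -/
noncomputable def tableHom : GSix →* Equiv.Perm Pt :=
  Setup.hom table.gens table.letters table.perm table.rels

noncomputable instance sixAction : MulAction GSix Pt := MulAction.compHom Pt tableHom

/-- A point by number. -/
def mkPt (i : ℕ) : Pt := ⟨i % 416, Nat.mod_lt i (by norm_num)⟩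

theorem mkPt_val (x : Pt) : mkPt x.val = x := Fin.ext (Nat.mod_eq_of_lt x.isLt)

theorem val_mkPt {i : ℕ} (h : i < 416) : (mkPt i).val = i := Nat.mod_eq_of_lt h

/-- The subgroup of index 416. -/
def base : Subgroup GSix := sixSetup.closureOf five

theorem exists_pointEquiv : ∃ e : Pt ≃ GSix ⧸ base,
    e (mkPt 0) = ((1 : GSix) : GSix ⧸ base) ∧ ∀ (g : GSix) (i : Pt), g • e i = e (g • i) := by
  obtain ⟨ext, hsrc, hext⟩ := table.src
  obtain ⟨e, h0, h⟩ := Setup.exists_equiv table.gens table.letters table.check table.rels table.perm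
    table.subs hsrc _ rfl hext
  exact ⟨e, h0, h⟩

instance sixPretransitive : IsPretransitive GSix Pt := by
  obtain ⟨e, -, h⟩ := exists_pointEquiv
  refine ⟨fun x y => ?_⟩
  obtain ⟨g, hg⟩ := MulAction.exists_smul_eq GSix (e x) (e y)
  exact ⟨g, e.injective (by rw [← h, hg])⟩

theorem stab_eq : stabilizer GSix (mkPt 0) = base := by
  obtain ⟨e, h0, h⟩ := exists_pointEquiv
  ext g
  rw [mem_stabilizer_iff, ← e.apply_eq_iff_eq, ← h, h0]
  constructor
  · intro hg
    have := QuotientGroup.eq.1 hg
    simpa using this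
  · intro hg
    exact QuotientGroup.eq.2 (by simpa using hg)

theorem card_base : Nat.card base = 604800 := by
  have h := base.index_mul_card
  rw [show base.index = 416 from (Setup.Table.index table).trans table_n, card_six] at h
  omega

/-- A letter. -/
def letterEl (a : ℕ) : GSix := sixSetup.el a

theorem base_eq : base = Subgroup.closure (letterEl '' {a | a < 5}) := by
  rw [base, Setup.closureOf]
  congr 1
  ext g
  constructor
  · rintro ⟨w, hw, rfl⟩
    simp only [five, Set.mem_ofPred_eq, List.mem_cons, List.not_mem_nil, or_false] at hw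
    rcases hw with rfl | rfl | rfl | rfl | rfl
    · exact ⟨0, by simp, rfl⟩
    · exact ⟨1, by simp, rfl⟩
    · exact ⟨2, by simp, rfl⟩
    · exact ⟨3, by simp, rfl⟩
    · exact ⟨4, by simp, rfl⟩
  · rintro ⟨a, (ha : a < 5), rfl⟩
    interval_cases a
    · exact ⟨wa, by simp [five], rfl⟩
    · exact ⟨wb, by simp [five], rfl⟩
    · exact ⟨wc, by simp [five], rfl⟩
    · exact ⟨wd, by simp [five], rfl⟩
    · exact ⟨we, by simp [five], rfl⟩

/-- Application of a word, first letter first. -/
def go : List ℕ → ℕ → ℕ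
  | [], x => x
  | a :: v, x => go v (StabCert.look 9 (letterTab.getD a 0) x)

/-- The element of a word. -/
def wordOf : List ℕ → GSix
  | [] => 1
  | a :: v => wordOf v * letterEl a

theorem act_ok : ((List.range 6).all fun a => (List.range 416).all fun i =>
    Nat.beq (suz_lvl0.act a i) (StabCert.look 9 (letterTab.getD a 0) i)) = true := by
  decide +kernel

theorem letter_smul {a : ℕ} (ha : a < 6) (p : Pt) :
    (letterEl a • p).val = StabCert.look 9 (letterTab.getD a 0) p.val := by
  have h := List.all_eq_true.1 (List.all_eq_true.1 act_ok a (List.mem_range.2 ha)) p.val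
    (List.mem_range.2 p.isLt)
  rw [Nat.beq_eq] at h
  show (tableHom (sixSetup.el a) p).val = _
  rw [tableHom, Setup.hom_el table.gens table.letters table.perm table.rels (show a < suz_lvl0.k from ha),
    Setup.perm_apply table.perm (show a < suz_lvl0.k from ha), h]

theorem go_spec : ∀ (w : List ℕ), (∀ a ∈ w, a < 6) → ∀ p : Pt, (wordOf w • p).val = go w p.val
  | [], _, p => by rw [wordOf, one_smul, go]
  | a :: v, hw, p => by
    rw [wordOf, mul_smul, go_spec v (fun b hb => hw b (List.mem_cons_of_mem a hb)),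
      letter_smul (hw a List.mem_cons_self), go]

theorem wordOf_mem : ∀ (w : List ℕ), (∀ a ∈ w, a < 5) → wordOf w ∈ base
  | [], _ => one_mem _
  | a :: v, hw => by
    refine mul_mem (wordOf_mem v fun b hb => hw b (List.mem_cons_of_mem a hb)) ?_
    rw [base_eq]
    exact Subgroup.subset_closure ⟨a, hw a List.mem_cons_self, rfl⟩

theorem orbitLab_ok : ((List.range 5).all fun a => (List.range 416).all fun i =>
    Nat.beq (orbitLab.getD (StabCert.look 9 (letterTab.getD a 0) i) 0) (orbitLab.getD i 0)) = true := by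
  decide +kernel

theorem orbitLab_smul {g : GSix} (hg : g ∈ base) (p : Pt) :
    orbitLab.getD (g • p).val 0 = orbitLab.getD p.val 0 := by
  rw [base_eq] at hg
  induction hg using Subgroup.closure_induction generalizing p with
  | mem x hx =>
    obtain ⟨a, (ha : a < 5), rfl⟩ := hx
    rw [letter_smul (show a < 6 by omega)]
    exact Nat.beq_eq ▸ List.all_eq_true.1 (List.all_eq_true.1 orbitLab_ok a (List.mem_range.2 ha))
      p.val (List.mem_range.2 p.isLt)
  | one => rw [one_smul]
  | mul a b _ _ ha hb => rw [mul_smul, ha, hb]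
  | inv a _ ha =>
    have := ha (a⁻¹ • p)
    rw [smul_inv_smul] at this
    exact this.symm

/-! ### pieces -/

/-- The word of a path. -/
def flat (C : Case) (p : List ℕ) : List ℕ := p.flatMap fun j => C.ws.getD j []

/-- The label of a point in a case. -/
def caseLab (C : Case) (x : ℕ) : ℕ := ((C.mems.find? fun m => m.1 == x).map fun m => m.2.1).getD 0

/-- The checks of a case for the orbit with label `ℓ`; `none` is the whole set. -/
def caseOK (C : Case) (inO : ℕ → Bool) : Bool :=
  (C.ws.all fun w => (w.all fun a => Nat.blt a 5) && go w C.base == C.base) &&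
  (C.reps.getD 0 416 == C.base && ((C.reps.all fun r => Nat.blt r 416) &&
  ((C.mems.all fun m => Nat.blt m.2.1 C.reps.length && ((m.2.2.all fun j => Nat.blt j C.ws.length) &&
    go (flat C m.2.2) (C.reps.getD m.2.1 0) == m.1)) &&
  ((List.range 416).all fun x => !inO x || C.mems.any fun m => m.1 == x))))

theorem case_conn {C : Case} {inO : ℕ → Bool} (h : caseOK C inO = true) {x y : Pt}
    (hx : inO x.val = true) (hy : inO y.val = true) (e : caseLab C x.val = caseLab C y.val) :
    ∃ g ∈ base, g • mkPt C.base = mkPt C.base ∧ g • x = y := by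
  simp only [caseOK, Bool.and_eq_true, List.all_eq_true, Nat.blt_eq, beq_iff_eq, List.mem_range,
    Bool.or_eq_true, Bool.not_eq_true', List.any_eq_true] at h
  obtain ⟨hws, h0, hreps, hmem, hall⟩ := h
  have key : ∀ z : Pt, inO z.val = true → ∃ g ∈ base, g • mkPt C.base = mkPt C.base ∧
      g • mkPt (C.reps.getD (caseLab C z.val) 0) = z := by
    intro z hz
    rcases hall z.val z.isLt with hf | ⟨m, hm, hmz⟩
    · rw [hz] at hf; exact absurd hf (by decide)
    obtain ⟨m', hm', hf⟩ : ∃ m', m' ∈ C.mems ∧ (C.mems.find? fun m => m.1 == z.val) = some m' := by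
      obtain ⟨m', hm'⟩ := Option.isSome_iff_exists.1
        ((List.find?_isSome (p := fun m => m.1 == z.val)).2 ⟨m, hm, beq_iff_eq.2 hmz⟩)
      exact ⟨m', List.mem_of_find?_eq_some hm', hm'⟩
    have hz' : m'.1 = z.val := by simpa using List.find?_some hf
    have hlab : caseLab C z.val = m'.2.1 := by rw [caseLab, hf]; rfl
    obtain ⟨hl, hidx, hgo⟩ := hmem m' hm'
    have hlet : ∀ a ∈ flat C m'.2.2, a < 5 := by
      intro a ha
      obtain ⟨j, hj, haj⟩ := List.mem_flatMap.1 ha
      rw [List.getD_eq_getElem _ _ (hidx j hj)] at haj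
      exact (hws _ (List.getElem_mem _)).1 a haj
    have hfix : ∀ p : List ℕ, (∀ j ∈ p, j < C.ws.length) → go (flat C p) C.base = C.base := by
      intro p
      induction p with
      | nil => intro _; rfl
      | cons j p ih =>
        intro hp
        have happ : ∀ (u v : List ℕ) (i : ℕ), go (u ++ v) i = go v (go u i) := by
          intro u
          induction u with
          | nil => intro v i; rfl
          | cons a u ih' => intro v i; exact ih' v _
        rw [show flat C (j :: p) = C.ws.getD j [] ++ flat C p from List.flatMap_cons, happ,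
          List.getD_eq_getElem _ _ (hp j List.mem_cons_self), (hws _ (List.getElem_mem _)).2,
          ih fun i hi => hp i (List.mem_cons_of_mem j hi)]
    have hb : C.base < 416 := by
      rw [← h0]
      have hlen : 0 < C.reps.length := by omega
      rw [List.getD_eq_getElem _ _ hlen]
      exact hreps _ (List.getElem_mem _)
    have hr : C.reps.getD m'.2.1 0 < 416 := by
      rw [List.getD_eq_getElem _ _ hl]
      exact hreps _ (List.getElem_mem _)
    refine ⟨wordOf (flat C m'.2.2), wordOf_mem _ hlet, Fin.ext ?_, Fin.ext ?_⟩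
    · rw [go_spec _ (fun a ha => (hlet a ha).trans (by norm_num)), val_mkPt hb, hfix _ hidx]
    · rw [go_spec _ (fun a ha => (hlet a ha).trans (by norm_num)), hlab, val_mkPt hr, hgo, hz']
  obtain ⟨g1, m1, f1, e1⟩ := key x hx
  obtain ⟨g2, m2, f2, e2⟩ := key y hy
  refine ⟨g2 * g1⁻¹, mul_mem m2 (inv_mem m1), ?_, ?_⟩
  · rw [mul_smul, inv_smul_eq_iff.2 f1.symm, f2]
  · rw [mul_smul, inv_smul_eq_iff.2 e1.symm, e, e2]

/-- The label as an element of `Fin`. -/
def finLab (C : Case) (k : ℕ) (x : Pt) : Fin (k + 1) := Fin.ofNat (k + 1) (caseLab C x.val)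

/-- Piece lengths. -/
def pieceCounts (C : Case) (inO : ℕ → Bool) (k : ℕ) : Fin (k + 1) → ℕ :=
  fun i => (List.range 416).countP fun x => inO x && caseLab C x == i.val

theorem ncard_piece (C : Case) (inO : ℕ → Bool) (k : ℕ) (O : Set Pt)
    (hO : ∀ x : Pt, x ∈ O ↔ inO x.val = true) (hlt : ∀ x < 416, caseLab C x < k + 1) (i : Fin (k + 1)) :
    (O ∩ finLab C k ⁻¹' {i}).ncard = pieceCounts C inO k i := by
  have himg : Fin.val '' (O ∩ finLab C k ⁻¹' {i}) =
      {x | x < 416 ∧ (inO x && caseLab C x == i.val) = true} := by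
    ext x
    simp only [Set.mem_image, Set.mem_inter_iff, Set.mem_preimage, Set.mem_singleton_iff, Set.mem_ofPred_eq,
      Bool.and_eq_true, beq_iff_eq, finLab, Fin.ext_iff, Fin.val_ofNat]
    constructor
    · rintro ⟨p, ⟨h1, h2⟩, rfl⟩
      rw [Nat.mod_eq_of_lt (hlt _ p.isLt)] at h2
      exact ⟨p.isLt, (hO p).1 h1, h2⟩
    · rintro ⟨hx, h1, h2⟩
      exact ⟨⟨x, hx⟩, ⟨(hO _).2 h1, by rw [Nat.mod_eq_of_lt (hlt _ hx)]; exact h2⟩, rfl⟩
  rw [← Set.ncard_image_of_injective _ Fin.val_injective, himg, pieceCounts, List.countP_eq_length_filter,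
    ← List.toFinset_card_of_nodup (List.nodup_range.filter _), ← Set.ncard_coe_finset]
  congr 1
  ext x
  simp

/-- The whole set. -/
def inWhole (_ : ℕ) : Bool := true

/-- One suborbit. -/
def inSub (ℓ : ℕ) (x : ℕ) : Bool := orbitLab.getD x 0 == ℓ

theorem whole_ok : caseOK whole inWhole = true := by decide +kernel

theorem small_ok : caseOK small (inSub 2) = true := by decide +kernel

theorem large_ok : caseOK large (inSub 1) = true := by decide +kernel

theorem whole_lab : ((List.range 416).all fun x => Nat.beq (caseLab whole x) (orbitLab.getD x 0) &&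
    Nat.blt (orbitLab.getD x 0) 3 && (Nat.beq x 0 == Nat.beq (orbitLab.getD x 0) 0)) = true := by
  decide +kernel

theorem whole_lab_spec {x : ℕ} (h : x < 416) : caseLab whole x = orbitLab.getD x 0 ∧
    orbitLab.getD x 0 < 3 ∧ (x = 0 ↔ orbitLab.getD x 0 = 0) := by
  have := List.all_eq_true.1 whole_lab x (List.mem_range.2 h)
  simp only [Bool.and_eq_true, Nat.beq_eq, Nat.blt_eq, beq_iff_eq] at this
  exact ⟨this.1.1, this.1.2, ⟨fun e => Nat.eq_of_beq_eq_true ((this.2).symm.trans (by rw [e]; exact Nat.beq_refl 0)),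
      fun e => Nat.eq_of_beq_eq_true ((this.2).trans (by rw [e]; exact Nat.beq_refl 0))⟩⟩

theorem arith_ok : SubPieces.Arith (pieceCounts whole inWhole 2) ∧
    SubPieces.Arith (pieceCounts small (inSub 2) 2) ∧ SubPieces.Arith (pieceCounts large (inSub 1) 5) := by
  refine ⟨?_, ?_, ?_⟩ <;> decide +kernel

theorem isCoatom_base : IsCoatom base := by
  rw [← stab_eq]
  refine SubPieces.isCoatom_stabilizer_of_pieces (mkPt 0) (finLab whole 2) (pieceCounts whole inWhole 2)
    (by decide +kernel) (fun x _ y _ e => ?_)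
    (ncard_piece whole inWhole 2 _ (fun x => ⟨fun _ => rfl, fun _ => by rw [orbit_eq_univ]; trivial⟩)
      fun x hx => by rw [(whole_lab_spec hx).1]; exact (whole_lab_spec hx).2.1) arith_ok.1 ?_
  · have e' : caseLab whole x.val = caseLab whole y.val := by
      have := congrArg Fin.val e
      simp only [finLab, Fin.val_ofNat] at this
      rwa [Nat.mod_eq_of_lt (by rw [(whole_lab_spec x.isLt).1]; exact (whole_lab_spec x.isLt).2.1),
        Nat.mod_eq_of_lt (by rw [(whole_lab_spec y.isLt).1]; exact (whole_lab_spec y.isLt).2.1)] at this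
    obtain ⟨g, hg, -, hgx⟩ := case_conn whole_ok (x := x) (y := y) rfl rfl e'
    exact ⟨g, stab_eq.symm ▸ hg, hgx⟩
  · rw [orbit_eq_univ]
    exact ⟨mkPt 0, trivial, mkPt 1, trivial, by decide +kernel⟩

theorem orbit_base (r : Pt) : ∀ x : Pt, x ∈ orbit base r ↔
    inSub (orbitLab.getD r.val 0) x.val = true := by
  intro x
  simp only [inSub, beq_iff_eq]
  constructor
  · rintro ⟨⟨g, hg⟩, rfl⟩
    exact orbitLab_smul hg r
  · intro e
    obtain ⟨g, hg, -, hgx⟩ := case_conn whole_ok (x := r) (y := x) rfl rfl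
      (by rw [(whole_lab_spec r.isLt).1, (whole_lab_spec x.isLt).1, e])
    exact ⟨⟨g, hg⟩, hgx⟩

theorem isCoatom_stab_case {C : Case} {ℓ k : ℕ} (hok : caseOK C (inSub ℓ) = true)
    (hlt : ((List.range 416).all fun x => Nat.blt (caseLab C x) (k + 1)) = true)
    (hb : (Nat.blt C.base 416 && (inSub ℓ C.base && Nat.beq (caseLab C C.base) 0)) = true)
    (har : SubPieces.Arith (pieceCounts C (inSub ℓ) k))
    (hne : ∃ x : Pt, inSub ℓ x.val = true ∧ x.val ≠ C.base) :
    IsCoatom (stabilizer base (mkPt C.base)) := by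
  simp only [Bool.and_eq_true, Nat.blt_eq, Nat.beq_eq] at hb
  simp only [List.all_eq_true, Nat.blt_eq, List.mem_range] at hlt
  obtain ⟨hb, hl, h0⟩ := hb
  have hℓ : orbitLab.getD (mkPt C.base).val 0 = ℓ := by
    rw [val_mkPt hb]; simpa [inSub] using hl
  have hmem : ∀ x : Pt, x ∈ orbit base (mkPt C.base) ↔ inSub ℓ x.val = true := by
    intro x; rw [orbit_base, hℓ]
  refine SubPieces.isCoatom_stabilizer_of_pieces (mkPt C.base) (finLab C k) (pieceCounts C (inSub ℓ) k)
    ?_ (fun x hx y hy e => ?_) (ncard_piece C (inSub ℓ) k _ hmem hlt) har ?_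
  · rw [finLab, val_mkPt hb, h0]; rfl
  · have e' : caseLab C x.val = caseLab C y.val := by
      have := congrArg Fin.val e
      simp only [finLab, Fin.val_ofNat] at this
      rwa [Nat.mod_eq_of_lt (hlt _ x.isLt), Nat.mod_eq_of_lt (hlt _ y.isLt)] at this
    obtain ⟨g, hg, hfix, hgx⟩ := case_conn hok ((hmem x).1 hx) ((hmem y).1 hy) e'
    exact ⟨⟨g, hg⟩, hfix, hgx⟩
  · obtain ⟨x, hx, hxne⟩ := hne
    exact ⟨x, (hmem x).2 hx, mkPt C.base, mem_orbit_self _, fun e => hxne (by rw [e, val_mkPt hb])⟩

theorem isCoatom_stab {p : Pt} (hp : p ≠ mkPt 0) : IsCoatom (stabilizer base p) := by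
  obtain ⟨-, h3, h0⟩ := whole_lab_spec p.isLt
  have hp0 : orbitLab.getD p.val 0 ≠ 0 := fun h => hp (Fin.ext (by rw [h0.2 h, val_mkPt (by norm_num)]))
  have move : ∀ r : Pt, orbitLab.getD r.val 0 = orbitLab.getD p.val 0 →
      IsCoatom (stabilizer base r) → IsCoatom (stabilizer base p) := by
    intro r e hc
    obtain ⟨h, hh⟩ : p ∈ orbit base r := (orbit_base r p).2 (beq_iff_eq.2 e.symm)
    subst hh
    rw [stabilizer_smul_eq_stabilizer_map_conj]
    exact ((MulAut.conj h).mapSubgroup.isCoatom_iff _).2 hc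
  rcases (by omega : orbitLab.getD p.val 0 = 1 ∨ orbitLab.getD p.val 0 = 2) with h | h
  · refine move (mkPt large.base) ?_ (isCoatom_stab_case (ℓ := 1) (k := 5) large_ok (by decide +kernel)
      (by decide +kernel) arith_ok.2.2 ⟨mkPt 2, by decide +kernel, by decide +kernel⟩)
    rw [h]; decide +kernel
  · refine move (mkPt small.base) ?_ (isCoatom_stab_case (ℓ := 2) (k := 2) small_ok (by decide +kernel)
      (by decide +kernel) arith_ok.2.1 ⟨mkPt (pos.getD 1 0), by decide +kernel, by decide +kernel⟩)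
    rw [h]; decide +kernel

theorem isCoatom_inter {x : GSix} (hx : x ∉ base) :
    IsCoatom ((base ⊓ base.map (MulAut.conj x).toMonoidHom).subgroupOf base) := by
  have e : (base ⊓ base.map (MulAut.conj x).toMonoidHom).subgroupOf base =
      stabilizer base (x • mkPt 0) := by
    have key : base.map (MulAut.conj x).toMonoidHom = stabilizer GSix (x • mkPt 0) := by
      rw [stabilizer_smul_eq_stabilizer_map_conj, stab_eq]
    ext g
    rw [Subgroup.mem_subgroupOf, Subgroup.mem_inf, key, mem_stabilizer_iff, mem_stabilizer_iff]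
    exact ⟨fun h => h.2, fun h => ⟨g.2, h⟩⟩
  rw [e]
  exact isCoatom_stab fun h => hx (stab_eq ▸ mem_stabilizer_iff.2 h)

/-! ### the isomorphism -/

/-- A point of the small suborbit. -/
def posPt (j : Fin 100) : Pt := mkPt (pos.getD j.val 0)

/-- A letter on the hundred points. -/
noncomputable def piEl (a : ℕ) : Equiv.Perm (Fin 100) := StabCert.wordEl JTwoPerm.gen (piWords.getD a [])

theorem pi_ok : ((List.range 5).all fun a => ((piWords.getD a []).all fun k => Nat.blt k 6) &&
    (List.range 100).all fun j => Nat.blt (pos.getD j 0) 416 &&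
      Nat.beq (StabCert.look 9 (letterTab.getD a 0) (pos.getD j 0))
        (pos.getD (StabCert.ev 7 JTwoPerm.tab (piWords.getD a []) j) 0)) = true := by
  decide +kernel

theorem pos_ok : pos.Nodup ∧ pos.length = 100 ∧ ∀ i ∈ pos, i < 416 := by decide +kernel

theorem posPt_injective : Function.Injective posPt := by
  intro i j e
  have := congrArg Fin.val e
  rw [posPt, posPt, val_mkPt, val_mkPt, List.getD_eq_getElem _ _ (by rw [pos_ok.2.1]; omega),
    List.getD_eq_getElem _ _ (by rw [pos_ok.2.1]; omega)] at this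
  · exact Fin.ext ((pos_ok.1.getElem_inj_iff (hi := by rw [pos_ok.2.1]; omega)
      (hj := by rw [pos_ok.2.1]; omega)).1 this)
  all_goals
    rw [List.getD_eq_getElem _ _ (by rw [pos_ok.2.1]; omega)]
    exact pos_ok.2.2 _ (List.getElem_mem _)

/-- Compatible pairs. -/
noncomputable def compatGroup : Subgroup (GSix × Equiv.Perm (Fin 100)) where
  carrier := {u | ∀ j, u.1 • posPt j = posPt (u.2 j)}
  one_mem' j := by
    show (1 : GSix) • posPt j = posPt ((1 : Equiv.Perm (Fin 100)) j)
    rw [one_smul, Equiv.Perm.one_apply]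
  mul_mem' {u v} hu hv j := by
    show (u.1 * v.1) • posPt j = posPt ((u.2 * v.2) j)
    rw [mul_smul, hv, hu, Equiv.Perm.mul_apply]
  inv_mem' {u} hu j := by
    show u.1⁻¹ • posPt j = posPt (u.2⁻¹ j)
    rw [inv_smul_eq_iff, hu, Equiv.Perm.inv_def, Equiv.apply_symm_apply]

/-- The letters as pairs. -/
noncomputable def pairK : Subgroup (GSix × Equiv.Perm (Fin 100)) :=
  Subgroup.closure ((fun a => (letterEl a, piEl a)) '' {a | a < 5})

theorem pairK_le : pairK ≤ compatGroup := by
  rw [pairK, Subgroup.closure_le]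
  rintro _ ⟨a, (ha : a < 5), rfl⟩ j
  have h := List.all_eq_true.1 pi_ok a (List.mem_range.2 ha)
  simp only [Bool.and_eq_true, List.all_eq_true, Nat.blt_eq, Nat.beq_eq, List.mem_range] at h
  obtain ⟨h1, h2⟩ := StabCert.ev_spec JTwoPerm.sound _ h.1 j.val j.isLt
  obtain ⟨hlt, e⟩ := h.2 j.val j.isLt
  rw [MonoidHom.id_apply, JTwoPerm.pt_val] at h2
  refine Fin.ext ?_
  show (letterEl a • posPt j).val = (posPt (piEl a j)).val
  rw [letter_smul (show a < 6 by omega), posPt, val_mkPt hlt, e, piEl, h2, posPt,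
    show (JTwoPerm.pt (StabCert.ev 7 JTwoPerm.tab (piWords.getD a []) j.val)).val =
      StabCert.ev 7 JTwoPerm.tab (piWords.getD a []) j.val from Nat.mod_eq_of_lt h1,
    val_mkPt ((h.2 _ h1).1)]

theorem pairK_fst : pairK.map (MonoidHom.fst _ _) = base := by
  rw [pairK, base_eq, MonoidHom.map_closure, Set.image_image]
  rfl

theorem back_ok : ((List.range 6).all fun k => ((backWords.getD k []).all fun a => Nat.blt a 5) &&
    (List.range 100).all fun j =>
      Nat.beq (StabCert.look 7 (JTwoPerm.tab.getD k 0) j)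
        (StabCert.ev 7 JTwoPerm.tab ((backWords.getD k []).flatMap fun a => piWords.getD a []) j)) = true := by
  decide +kernel

theorem pairK_snd : pairK.map (MonoidHom.snd _ _) = JTwoPerm.jTwo := by
  rw [pairK, MonoidHom.map_closure, Set.image_image, JTwoPerm.jTwo, StabCert.sub]
  refine le_antisymm ?_ ?_
  · rw [Subgroup.closure_le]
    rintro _ ⟨a, (ha : a < 5), rfl⟩
    have h := List.all_eq_true.1 pi_ok a (List.mem_range.2 ha)
    simp only [Bool.and_eq_true, List.all_eq_true, Nat.blt_eq] at h
    exact StabCert.wordEl_mem _ fun k hk => List.mem_range.2 (h.1 k hk)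
  · rw [Subgroup.closure_le]
    rintro _ ⟨k, hk, rfl⟩
    have hk6 : k < 6 := List.mem_range.1 hk
    have h := List.all_eq_true.1 back_ok k (List.mem_range.2 hk6)
    simp only [Bool.and_eq_true, List.all_eq_true, Nat.blt_eq, Nat.beq_eq, List.mem_range] at h
    obtain ⟨hb, hj⟩ := h
    have hlet : ∀ c ∈ (backWords.getD k []).flatMap (fun a => piWords.getD a []), c < 6 := by
      intro c hc
      obtain ⟨a, ha, hca⟩ := List.mem_flatMap.1 hc
      have h' := List.all_eq_true.1 pi_ok a (List.mem_range.2 (hb a ha))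
      simp only [Bool.and_eq_true, List.all_eq_true, Nat.blt_eq] at h'
      exact h'.1 c hca
    have e : JTwoPerm.gen k = ((backWords.getD k []).map piEl).prod := by
      have e1 : StabCert.wordEl JTwoPerm.gen [k] =
          StabCert.wordEl JTwoPerm.gen ((backWords.getD k []).flatMap fun a => piWords.getD a []) :=
        JTwoPerm.wordEl_eq (fun c hc => by rw [List.mem_singleton.1 hc]; exact hk6) hlet
          fun i hi => hj i hi
      have e2 : ∀ l : List ℕ, StabCert.wordEl JTwoPerm.gen (l.flatMap fun a => piWords.getD a []) =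
          (l.map piEl).prod := by
        intro l
        induction l with
        | nil => rfl
        | cons a l ih => rw [List.flatMap_cons, StabCert.wordEl_append, ih, List.map_cons, List.prod_cons]; rfl
      rw [← e2, ← e1]
      simp [StabCert.wordEl]
    rw [SetLike.mem_coe, e]
    refine Subgroup.list_prod_mem _ fun x hx => ?_
    obtain ⟨a, ha, rfl⟩ := List.mem_map.1 hx
    exact Subgroup.subset_closure ⟨a, hb a ha, rfl⟩

theorem nonempty_base_equiv : Nonempty (base ≃* Cfsg.Spor.J2) := by
  have : Finite GSix := finite_six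
  let f1 := (MonoidHom.fst GSix (Equiv.Perm (Fin 100))).comp pairK.subtype
  let f2 := (MonoidHom.snd GSix (Equiv.Perm (Fin 100))).comp pairK.subtype
  have r1 : f1.range = base := by rw [MonoidHom.range_comp, Subgroup.range_subtype, pairK_fst]
  have r2 : f2.range = JTwoPerm.jTwo := by rw [MonoidHom.range_comp, Subgroup.range_subtype, pairK_snd]
  have i1 : Function.Injective f1 := by
    refine (injective_iff_map_eq_one f1).2 fun u hu => Subtype.ext (Prod.ext hu (Equiv.ext fun j => ?_))
    have h := pairK_le u.2 j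
    rw [show u.1.1 = 1 from hu, one_smul] at h
    exact (posPt_injective h).symm
  let e1 : pairK ≃* base := (MonoidHom.ofInjective i1).trans (MulEquiv.subgroupCongr r1)
  have hb : Function.Bijective f2.rangeRestrict :=
    (Nat.bijective_iff_surjective_and_card _).2 ⟨f2.rangeRestrict_surjective, by
      rw [Nat.card_congr e1.toEquiv, card_base, Nat.card_congr (MulEquiv.subgroupCongr r2).toEquiv,
        JTwoPerm.natCard_jTwo]⟩
  exact ⟨(e1.symm.trans ((MulEquiv.ofBijective _ hb).trans (MulEquiv.subgroupCongr r2))).trans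
    IcoGroup.equivJTwo.symm⟩

/-! ### transfer -/

theorem transfer {Γ : Type*} [Group Γ] (θ : GSix ≃* Γ) :
    ∃ H : Subgroup Γ, IsCoatom H ∧ Cfsg.Spor.IsoJ2 H ∧
      ∀ x : Γ, x ∉ H → IsCoatom ((H ⊓ H.map (MulAut.conj x).toMonoidHom).subgroupOf H) := by
  refine ⟨base.map θ.toMonoidHom, (θ.mapSubgroup.isCoatom_iff _).2 isCoatom_base, ?_, fun x hx => ?_⟩
  · obtain ⟨e⟩ := nonempty_base_equiv
    exact ⟨(θ.subgroupMap base).symm.trans e⟩
  · obtain ⟨y, rfl⟩ := θ.surjective x
    have hy : y ∉ base := fun h => hx ⟨y, h, rfl⟩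
    have hK : (base.map θ.toMonoidHom ⊓ (base.map θ.toMonoidHom).map
        (MulAut.conj (θ y)).toMonoidHom).subgroupOf (base.map θ.toMonoidHom) =
        ((base ⊓ base.map (MulAut.conj y).toMonoidHom).subgroupOf base).map
          (θ.subgroupMap base).toMonoidHom := by
      ext g
      obtain ⟨b, rfl⟩ := (θ.subgroupMap base).surjective g
      refine Iff.trans ?_ (Subgroup.mem_map_iff_mem (f := (θ.subgroupMap base).toMonoidHom)
        (θ.subgroupMap base).injective).symm
      simp only [Subgroup.mem_subgroupOf, Subgroup.mem_inf]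
      refine and_congr ⟨fun _ => b.2, fun _ => ⟨b, b.2, rfl⟩⟩ ⟨?_, ?_⟩
      · rintro ⟨_, ⟨c, hc, rfl⟩, e⟩
        exact ⟨c, hc, θ.injective (by
          show θ (y * c * y⁻¹) = θ (b : GSix)
          rw [map_mul, map_mul, map_inv]
          exact e)⟩
      · rintro ⟨c, hc, e⟩
        refine ⟨θ c, ⟨c, hc, rfl⟩, ?_⟩
        show θ y * θ c * (θ y)⁻¹ = θ (b : GSix)
        rw [← map_inv, ← map_mul, ← map_mul]
        exact congrArg θ e
    rw [hK]
    exact ((θ.subgroupMap base).mapSubgroup.isCoatom_iff _).2 (isCoatom_inter hy)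

theorem exists_group_equiv (D : ChevalleyDatum) {K L : Type*} [Field K] [Field L] (σ : K ≃+* L) :
    Nonempty (D.group K ≃* D.group L) := by
  let e : GL D.Idx K ≃* GL D.Idx L := Units.mapEquiv σ.mapMatrix.toMulEquiv
  have hgen : e.toMonoidHom '' {g | ∃ (r : Fin D.nroots) (t : K), (g : Matrix D.Idx D.Idx K) = D.xMat K r t} =
      ({g | ∃ (r : Fin D.nroots) (t : L), (g : Matrix D.Idx D.Idx L) = D.xMat L r t} :
        Set (GL D.Idx L)) := by
    have hx : ∀ (r : Fin D.nroots) (t : K), (D.xMat K r t).map σ = D.xMat L r (σ t) := by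
      intro r t
      have h := Chev.xR_map D (σ : K →+* L) r.val t
      rw [← Chev.x_eq_xR D r.isLt, ← Chev.x_eq_xR D r.isLt] at h
      simpa only [ChevalleyDatum.x, dif_pos r.isLt, Fin.eta, RingHom.coe_coe] using h
    ext g
    constructor
    · rintro ⟨a, ⟨r, t, hr⟩, rfl⟩
      refine ⟨r, σ t, ?_⟩
      show (a : Matrix D.Idx D.Idx K).map σ = _
      rw [hr, hx]
    · rintro ⟨r, t, hr⟩
      refine ⟨e.symm g, ⟨r, σ.symm t, ?_⟩, e.apply_symm_apply g⟩
      show (g : Matrix D.Idx D.Idx L).map σ.symm = _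
      rw [hr, ← σ.apply_symm_apply t, ← hx]
      ext i j
      simp
  have hmap : (D.group K).map e.toMonoidHom = D.group L := by
    rw [ChevalleyDatum.group, MonoidHom.map_closure, hgen]
    rfl
  exact ⟨(e.subgroupMap _).trans (MulEquiv.subgroupCongr hmap)⟩

theorem exists_group {F : Type*} [Field F] [Fintype F] (hF : Fintype.card F = 4) :
    ∃ H : Subgroup (chevG2.group F), IsCoatom H ∧ Cfsg.Spor.IsoJ2 H ∧
      ∀ x : chevG2.group F, x ∉ H → IsCoatom ((H ⊓ H.map (MulAut.conj x).toMonoidHom).subgroupOf H) := by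
  obtain ⟨θ⟩ := exists_group_equiv chevG2 (FiniteField.ringEquivOfCardEq
    (K := Cfsg.Agent.Unitary.GF4) (K' := F) (by rw [hF]; decide +kernel))
  exact transfer (((MonoidHom.ofInjective matHom_spec.1).trans (MulEquiv.subgroupCongr matHom_spec.2)).trans θ)

end Cfsg.Agent.JTwoInGTwo
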