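import Cfsg.Agent.EqLemmas

/-!
# The point stabiliser of the Hall-Janko group in `PSU(3,3)`: tables

* `unitaryMats` : matrices over `𝔽₉ = 𝔽₃[ω]`, `ω² = -1`, entries coded `re + 3 im`
* `isoVecs` : the isotropic lines
* `pairTab` : the action on the hundred points and the lines together
-/

set_option autoImplicit false

namespace Cfsg.Agent.PointStab

/-- The matrices of the six letters. -/
def unitaryMats : List (List (List ℕ)) := [[[8, 3, 6], [1, 6, 5], [3, 4, 2]], [[8, 0, 7], [3, 7, 1], [3, 5, 1]], [[1, 0, 0], [0, 1, 0], [0, 0, 1]], [[1, 7, 6], [4, 0, 5], [3, 8, 1]], [[2, 8, 3], [3, 3, 4], [7, 6, 2]], [[5, 1, 3], [3, 4, 3], [1, 6, 4]]]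

/-- The isotropic lines. -/
def isoVecs : List (List ℕ) := [[0, 1, 4], [0, 1, 5], [0, 1, 7], [0, 1, 8], [1, 0, 4], [1, 0, 5], [1, 0, 7], [1, 0, 8], [1, 1, 1], [1, 1, 2], [1, 1, 3], [1, 1, 6], [1, 2, 1], [1, 2, 2], [1, 2, 3], [1, 2, 6], [1, 3, 1], [1, 3, 2], [1, 3, 3], [1, 3, 6], [1, 4, 0], [1, 5, 0], [1, 6, 1], [1, 6, 2], [1, 6, 3], [1, 6, 6], [1, 7, 0], [1, 8, 0]]

/-- Three independent lines and one in general position. -/
def baseIdx : List ℕ := [0, 1, 4, 5]

/-- The inverse of the matrix of the first three. -/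
def baseInv : List (List ℕ) := [[4, 5, 2], [8, 8, 1], [1, 0, 0]]

/-- Tables, eight bits each. -/
def pairTab : List ℕ := [
  0x6d67717a6478747f73777d6f7269797570666e6b6a7b65766c7c687e4c3e305e5463592e263b3c5536275250335a565b3835442a454d4260342b472d325d43533161394e3d4a584028624951372c5f2f573a5c462529484f4b3f41210113231706151a0e0c141808040a1109241b0b2212190d1f1602200705031c1d0f1e1000,
  0x737f70646f696b7b6d657a7977677e727c666a757d71766c7478686e59455b4655494a56504c4b4f623b2a313c3629333d402c3237412b34425f5d252d2830262e272f3a38443e35393f43535a614d574e475c5e54516052635848030224221505091914160d0a180b171d13081e01201b0c0f061a071c1210110e2123041f00,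
  0x7f7e7d7c7b7a797877767574737271706f6e6d6c6b6a696867666564636261605f5e5d5c5b5a595857565554535251504f4e4d4c4b4a494847464544434241403f3e3d3c3b3a393837363534333231302f2e2d2c2b2a292827262524232221201f1e1d1c1b1a191817161514131211100f0e0d0c0b0a09080706050403020100,
  0x7f6c6f6865717564736a797477697a667d6b6d7e6e76727c67707b7863626157585b5a595e5d5c5f604339383e3d373c423f353a44413b364045464b564f4a474e535250494c555451484d34302c28332f2b27322e2a26312d29251c0f112120181e1324101a151f0e1219141d16221b23170c0d0b0a09080302050407060100,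
  0x7e667f706a7d717468777b647a6d6579727c766e6f78756b73676c694d29435027413251623e604c40423d2d452663483f613349445554462c30575e3a4f2b5b2a393536255f474e4a5a312f5d5c282e5859343c523b5337384b561e1813200f21111c1a2415101b032314221d19161f1208040905020a170b0d0e0c07060100,
  0x7c666569747d756a6c6e6d6f6b7b7f73727e67776478717a79766870465a583c49302e51524a2c2a4456632d594b3d533f253627402b5f4d604139372f38555b4c57313361545d4e3e29353a47285c3243453450623b485e4f26421419221611210f1c122415231d17101e131b18201f1a050609080a02030b0d0e0c07040100]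

end Cfsg.Agent.PointStab
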