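import Cfsg.Agent.Lib.IcosianGroup.Spectrum
import Cfsg.Agent.Lib.IcosianGroup.PointStabData
import Cfsg.Agent.Lib.StabCert.Quad

/-!
# The point stabiliser of the Hall-Janko group is `PSU(3,3)`

* `pairGroup` : the generators of the stabiliser paired with permutations of the isotropic lines
* `nonempty_stabilizer_equiv` : the stabiliser of `0` in `jTwo` is isomorphic to `PSU(3,3)`
* `ncard_orbit_one`, `ncard_orbit_thirty_seven` : its orbit lengths 36 and 63
-/

set_option autoImplicit false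
set_option maxRecDepth 100000

namespace Cfsg.Agent.PointStab

open scoped Matrix
open Cfsg.Agent.StabCert Cfsg.Agent.Unitary MulAction

/-- The matrix of a letter. -/
def umat (k : ℕ) : Matrix (Fin 3) (Fin 3) (Quad 3 2 0) := qmat 3 2 0 3 (unitaryMats.getD k [])

/-- The vector of a line. -/
def lineQ (i : ℕ) : Fin 3 → Quad 3 2 0 := qvec 3 2 0 3 (isoVecs.getD i [])

theorem units_ok : unitsOK 3 2 0 = true := by decide +kernel

theorem umat_ok : ∀ k : Fin 6, suOK (umat k.val) = true := by decide +kernel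

theorem lines_ok : ∀ i : Fin 28, lineOK (lineQ i.val) = true := by decide +kernel

theorem lines_inj : ∀ i j : Fin 28, lineQ i.val = lineQ j.val → i = j := by decide +kernel

theorem tab_right_ok : ∀ k : Fin 6, ∀ i : Fin 28,
    (Nat.ble 100 (look 8 (pairTab.getD k.val 0) (100 + i.val)) &&
      (Nat.blt (look 8 (pairTab.getD k.val 0) (100 + i.val)) 128 &&
      propOK 3 2 0 3 (unitaryMats.getD k.val []) (isoVecs.getD i.val [])
        (isoVecs.getD (look 8 (pairTab.getD k.val 0) (100 + i.val) - 100) []))) = true := by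
  decide +kernel

theorem tab_left_ok : ((List.range 6).all fun k => (List.range 100).all fun i =>
    Nat.beq (look 8 (pairTab.getD k 0) i)
      (bif JTwoPerm.lev1.gens.contains k then look 7 (JTwoPerm.tab.getD k 0) i else i)) = true := by
  decide +kernel

theorem exists_hom {F : Type} [Field F] [Fintype F] (hF : Fintype.card F = 3 ^ 2) :
    ∃ φ : Quad 3 2 0 →+* F, ∀ z, φ (star z) = φ z ^ 3 := by
  have : Fact (Nat.Prime 3) := ⟨by norm_num⟩
  have : CharP F 3 := charP_of_card_eq_prime_pow hF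
  have h3 : (3 : F) = 0 := CharP.cast_eq_zero F 3
  obtain ⟨ω, hω⟩ : IsSquare (-1 : F) := FiniteField.isSquare_neg_one_iff.2 (by rw [hF]; norm_num)
  refine Quad.exists_hom hF ω ?_ ?_
  · push_cast
    linear_combination -hω - h3
  · push_cast
    linear_combination -ω * hω

variable {F : Type} [Field F] [Fintype F] (hF : Fintype.card F = 3 ^ 2) (φ : Quad 3 2 0 →+* F)
  (hφ : ∀ z, φ (star z) = φ z ^ 3)

/-- A permutation of points and a permutation of lines. -/
abbrev Pair (F : Type) [Field F] : Type := Equiv.Perm (Fin 100) × Equiv.Perm (IsoLine 3 F 3)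

/-- The points and lines by number. -/
noncomputable def pt (i : ℕ) : Fin 100 ⊕ IsoLine 3 F 3 :=
  if i < 100 then .inl (JTwoPerm.pt i)
  else if h : lineOK (lineQ (i - 100)) = true then .inr (lineOf φ hφ _ h) else .inl 0

/-- The six letters. -/
noncomputable def pairGen (k : ℕ) : Pair F :=
  if h : k < 6 then
    (if JTwoPerm.lev1.gens.contains k then JTwoPerm.gen k else 1,
      permHom 3 F 3 (suOf φ hφ hF _ (umat_ok ⟨k, h⟩))) else 1

/-- The action on points and lines. -/
noncomputable def rho (F : Type) [Field F] : Pair F →* Equiv.Perm (Fin 100 ⊕ IsoLine 3 F 3) :=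
  Equiv.Perm.sumCongrHom _ _

theorem pt_left {i : ℕ} (hi : i < 100) : pt φ hφ i = .inl (JTwoPerm.pt i) := by rw [pt, if_pos hi]

theorem pt_right {i : ℕ} (hi : 100 ≤ i) (hi' : i < 128) :
    pt φ hφ i = .inr (lineOf φ hφ _ (lines_ok ⟨i - 100, by omega⟩)) := by
  rw [pt, if_neg (by omega), dif_pos (lines_ok ⟨i - 100, by omega⟩)]

theorem sound : TablesSound (rho F) (pairGen hF φ hφ) (pt φ hφ) 8 128 6 pairTab := by
  intro k hk i hi
  rw [pairGen, dif_pos hk]
  by_cases hl : i < 100
  · have h := List.all_eq_true.1 (List.all_eq_true.1 tab_left_ok k (List.mem_range.2 hk)) i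
      (List.mem_range.2 hl)
    rw [Nat.beq_eq] at h
    rw [h, pt_left φ hφ hl]
    rcases Bool.eq_false_or_eq_true (JTwoPerm.lev1.gens.contains k) with hc | hc
    · obtain ⟨h1, h2⟩ := JTwoPerm.sound k hk i hl
      rw [hc, cond_true, pt_left φ hφ h1]
      exact ⟨by omega, congrArg Sum.inl h2⟩
    · rw [hc, cond_false, pt_left φ hφ hl]
      exact ⟨hi, congrArg Sum.inl rfl⟩
  · have h := tab_right_ok ⟨k, hk⟩ ⟨i - 100, by omega⟩
    simp only [Bool.and_eq_true, Nat.ble_eq, Nat.blt_eq] at h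
    rw [show 100 + (i - 100) = i by omega] at h
    obtain ⟨l1, l2, l3⟩ := h
    refine ⟨l2, ?_⟩
    rw [pt_right φ hφ (by omega) hi, pt_right φ hφ l1 l2]
    exact congrArg Sum.inr (smul_lineOf φ hφ hF (umat_ok ⟨k, hk⟩) (lines_ok ⟨i - 100, by omega⟩)
      (lines_ok ⟨look 8 (pairTab.getD k 0) i - 100, by omega⟩) (propOK_spec l3))

theorem injOn_pt : Set.InjOn (pt φ hφ) {i | i < 128} := by
  intro i (hi : i < 128) j (hj : j < 128) e
  by_cases hil : i < 100 <;> by_cases hjl : j < 100
  · rw [pt_left φ hφ hil, pt_left φ hφ hjl] at e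
    exact JTwoPerm.pt_injOn hil hjl (Sum.inl_injective e)
  · rw [pt_left φ hφ hil, pt_right φ hφ (by omega) hj] at e
    exact absurd e Sum.inl_ne_inr
  · rw [pt_left φ hφ hjl, pt_right φ hφ (by omega) hi] at e
    exact absurd e Sum.inr_ne_inl
  · rw [pt_right φ hφ (by omega) hi, pt_right φ hφ (by omega) hj] at e
    have := congrArg Fin.val (lines_inj ⟨i - 100, by omega⟩ ⟨j - 100, by omega⟩
      (lineOf_inj φ hφ (Quad.hom_injective units_ok φ) _ _ (Sum.inr_injective e)))
    simp only at this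
    omega

/-- Every point, and four lines. -/
def detPts : List ℕ := List.range 100 ++ baseIdx.map fun i => 100 + i

/-- The matrix of the first three base lines. -/
def baseMat : Matrix (Fin 3) (Fin 3) (Quad 3 2 0) :=
  Matrix.of fun i j => lineQ (baseIdx.getD j.val 0) i

theorem gen_pos_ok : (genPosOK baseMat (qmat 3 2 0 3 baseInv) (lineQ (baseIdx.getD 3 0)) &&
    (baseIdx.all fun i => Nat.blt i 28) && baseIdx.length == 4) = true := by decide +kernel

theorem detPts_lt : ∀ β ∈ detPts, β < 128 := by decide +kernel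

include hF in
theorem perm_eq_one {σ : Equiv.Perm (IsoLine 3 F 3)} (hσ : σ ∈ (permHom 3 F 3).range)
    (h : ∀ (i : ℕ) (hi : i < 28), i ∈ baseIdx →
      σ (lineOf φ hφ _ (lines_ok ⟨i, hi⟩)) = lineOf φ hφ _ (lines_ok ⟨i, hi⟩)) : σ = 1 := by
  obtain ⟨s, rfl⟩ := hσ
  have g := gen_pos_ok
  simp only [Bool.and_eq_true, List.all_eq_true, Nat.blt_eq, beq_iff_eq] at g
  obtain ⟨⟨hgp, hlt⟩, hlen⟩ := g
  have hm : ∀ j, j < 4 → baseIdx.getD j 0 ∈ baseIdx := fun j hj => by
    rw [List.getD_eq_getElem _ _ (by omega)]; exact List.getElem_mem _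
  have hline : ∀ j, j < 4 → ∀ (u : Fin 3 → Quad 3 2 0) (hu : lineOK u = true),
      lineQ (baseIdx.getD j 0) = u → s • lineOf φ hφ u hu = lineOf φ hφ u hu := by
    intro j hj u hu e
    subst e
    exact h _ (hlt _ (hm j hj)) (hm j hj)
  have hW : ∀ i, lineOK (baseMatᵀ i) = true := fun i => lines_ok ⟨_, hlt _ (hm i.val (by omega))⟩
  have hc := mem_center_of_fix φ hφ hF (by norm_num) hgp hW (lines_ok ⟨_, hlt _ (hm 3 (by norm_num))⟩) s
    (fun i => hline i.val (by omega) _ (hW i) rfl) (hline 3 (by norm_num) _ _ rfl)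
  rwa [← ker_permHom hF (by norm_num)] at hc

theorem range_mem {g : Pair F} {l : List ℕ} (hg : g ∈ sub (pairGen hF φ hφ) l) :
    g.2 ∈ (permHom 3 F 3).range := by
  have hle : sub (pairGen hF φ hφ) l ≤
      (permHom 3 F 3).range.comap (MonoidHom.snd (Equiv.Perm (Fin 100)) _) := by
    rw [sub, Subgroup.closure_le]
    rintro _ ⟨k, -, rfl⟩
    rw [SetLike.mem_coe, Subgroup.mem_comap, pairGen]
    split_ifs
    all_goals first | exact ⟨_, rfl⟩ | exact ⟨1, map_one _⟩
  exact hle hg

theorem chain_ok : chainOK 8 128 6 pairTab detPts [JTwoPerm.lev1, JTwoPerm.lev2, JTwoPerm.lev3] = true := by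
  decide +kernel

/-- The paired group. -/
noncomputable def pairGroup : Subgroup (Pair F) := sub (pairGen hF φ hφ) JTwoPerm.lev1.gens

theorem finite_isoLine (F : Type) [Field F] [Fintype F] : Finite (IsoLine 3 F 3) :=
  Finite.of_injective (fun P => ((P.1 : Submodule F (Fin 3 → F)) : Set (Fin 3 → F)))
    fun P Q e => Subtype.ext (SetLike.ext' e)

theorem natCard_pairGroup : Nat.card (pairGroup hF φ hφ) = 6048 := by
  have := finite_isoLine F
  have h := chain_spec (ρ := rho F) (sound hF φ hφ) (injOn_pt φ hφ) detPts_lt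
    (fun g hg hfix => by
      refine Prod.ext (Equiv.ext fun x => ?_) (perm_eq_one hF φ hφ (range_mem hF φ hφ hg) ?_)
      · have e := hfix x.val (List.mem_append_left _ (List.mem_range.2 x.isLt))
        rw [pt_left φ hφ x.isLt, JTwoPerm.pt_val] at e
        exact Sum.inl_injective e
      · intro i hi hmem
        have e := hfix (100 + i) (List.mem_append_right _ (List.mem_map.2 ⟨i, hmem, rfl⟩))
        rw [pt_right φ hφ (by omega) (by omega)] at e
        have e' := Sum.inr_injective (α := Fin 100) e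
        simp only [Nat.add_sub_cancel_left] at e'
        exact e') _ chain_ok
  rw [pairGroup, show JTwoPerm.lev1.gens = nextGens [JTwoPerm.lev1, JTwoPerm.lev2, JTwoPerm.lev3] from rfl,
    h.2.1]
  decide +kernel

theorem map_fst : (pairGroup hF φ hφ).map (MonoidHom.fst _ _) = sub JTwoPerm.gen JTwoPerm.lev1.gens := by
  rw [pairGroup, StabCert.sub, StabCert.sub, MonoidHom.map_closure, Set.image_image]
  refine congrArg Subgroup.closure (Set.image_congr fun k (hk : k ∈ JTwoPerm.lev1.gens) => ?_)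
  have h6 : k < 6 := by fin_cases hk <;> norm_num
  rw [pairGen, dif_pos h6, if_pos (List.contains_iff_mem.2 hk)]
  rfl

theorem natCard_gens : Nat.card (sub JTwoPerm.gen JTwoPerm.lev1.gens) = 6048 := by
  have h := chain_spec (G := Equiv.Perm (Fin 100)) (ρ := MonoidHom.id _) JTwoPerm.sound JTwoPerm.pt_injOn
    (fun β hβ => List.mem_range.1 hβ) (fun g _ hg => Equiv.ext fun x => by
      have := hg x (List.mem_range.2 x.isLt)
      rw [JTwoPerm.pt_val] at this
      simpa using this) [JTwoPerm.lev1, JTwoPerm.lev2, JTwoPerm.lev3] (by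
      have := JTwoPerm.chain_ok
      rw [chainOK, Bool.and_eq_true] at this
      exact this.2)
  rw [show JTwoPerm.lev1.gens = nextGens [JTwoPerm.lev1, JTwoPerm.lev2, JTwoPerm.lev3] from rfl, h.2.1]
  decide +kernel

theorem gens_le : sub JTwoPerm.gen JTwoPerm.lev1.gens ≤ JTwoPerm.jTwo :=
  Subgroup.closure_mono (Set.image_mono fun k (hk : k ∈ JTwoPerm.lev1.gens) => by
    show k ∈ List.range 6
    revert k
    decide)

theorem stabilizer_eq :
    stabilizer JTwoPerm.jTwo (JTwoPerm.pt 0) =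
      (sub JTwoPerm.gen JTwoPerm.lev1.gens).subgroupOf JTwoPerm.jTwo := by
  symm
  refine Subgroup.eq_of_le_of_card_ge (fun x hx => ?_) ?_
  · have hle : sub JTwoPerm.gen JTwoPerm.lev1.gens ≤
        stabilizer (Equiv.Perm (Fin 100)) (JTwoPerm.pt 0) := by
      rw [sub, Subgroup.closure_le]
      rintro _ ⟨k, hk, rfl⟩
      have hfix : ∀ k ∈ JTwoPerm.lev1.gens, k < 6 ∧ look 7 (JTwoPerm.tab.getD k 0) 0 = 0 := by
        decide +kernel
      obtain ⟨h6, h0⟩ := hfix k hk
      have := (JTwoPerm.sound k h6 0 (by norm_num)).2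
      rw [h0] at this
      exact this
    exact hle hx
  · rw [JTwoPerm.natCard_stabilizer,
      Nat.card_congr (Subgroup.subgroupOfEquivOfLe gens_le).toEquiv, natCard_gens]

/-- Only the identity among the products of transversals fixes the four lines. -/
def kerOK : Bool :=
  JTwoPerm.lev1.words.all fun u => JTwoPerm.lev2.words.all fun v => JTwoPerm.lev3.words.all fun w =>
    (u ++ (v ++ w)).all (fun k => JTwoPerm.lev1.gens.contains k) &&
      ((baseIdx.any fun i => !Nat.beq (ev 8 pairTab (u ++ (v ++ w)) (100 + i)) (100 + i)) ||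
        [1, 38, 2].all fun b => Nat.beq (ev 8 pairTab (u ++ (v ++ w)) b) b)

theorem ker_ok : kerOK = true := by decide +kernel

/-- The projection to the points. -/
noncomputable def toPoints : pairGroup hF φ hφ →* sub JTwoPerm.gen JTwoPerm.lev1.gens :=
  ((MonoidHom.fst _ _).comp (pairGroup hF φ hφ).subtype).codRestrict _
    fun x => map_fst hF φ hφ ▸ ⟨x.1, x.2, rfl⟩

theorem toPoints_bijective : Function.Bijective (toPoints hF φ hφ) := by
  have := finite_isoLine F
  refine (Nat.bijective_iff_surjective_and_card _).2 ⟨fun y => ?_, ?_⟩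
  · have h : (y : Equiv.Perm (Fin 100)) ∈ (pairGroup hF φ hφ).map (MonoidHom.fst _ _) :=
      (map_fst hF φ hφ).symm ▸ y.2
    obtain ⟨x, hx, e⟩ := h
    exact ⟨⟨x, hx⟩, Subtype.ext e⟩
  · rw [natCard_pairGroup, natCard_gens]

/-- The projection to the lines. -/
noncomputable def toLines : pairGroup hF φ hφ →* (permHom 3 F 3).range :=
  ((MonoidHom.snd _ _).comp (pairGroup hF φ hφ).subtype).codRestrict _ fun x => range_mem hF φ hφ x.2

theorem toLines_injective : Function.Injective (toLines hF φ hφ) := by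
  refine (injective_iff_map_eq_one (toLines hF φ hφ)).2 fun g hg => ?_
  have hg2 : g.1.2 = 1 := congrArg Subtype.val hg
  refine (toPoints_bijective hF φ hφ).1 ?_
  rw [map_one]
  refine Subtype.ext ?_
  show g.1.1 = 1
  have hmem : g.1.1 ∈ sub JTwoPerm.gen JTwoPerm.lev1.gens := (toPoints hF φ hφ g).2
  have hst : (⟨g.1.1, gens_le hmem⟩ : JTwoPerm.jTwo) ∈ stabilizer JTwoPerm.jTwo (JTwoPerm.pt 0) := by
    rw [stabilizer_eq]; exact hmem
  obtain ⟨u, hu, v, hv, w, hw, hul, hvw, e⟩ := JTwoPerm.stab_words hst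
  have hk := ker_ok
  simp only [kerOK, List.all_eq_true, Bool.and_eq_true, Bool.or_eq_true, List.any_eq_true,
    List.contains_iff_mem, Bool.not_eq_true', Nat.beq_eq] at hk
  obtain ⟨hlet, hcase⟩ := hk u hu v hv w hw
  have h6 : ∀ k ∈ u ++ (v ++ w), k < 6 := fun k hk =>
    (List.mem_append.1 hk).elim (hul k) (hvw k)
  -- the word lifts to `g`
  have hw' : (wordEl (pairGen hF φ hφ) (u ++ (v ++ w))).1 = wordEl JTwoPerm.gen (u ++ (v ++ w)) := by
    refine Equiv.ext fun x => ?_
    have e1 := (ev_spec (sound hF φ hφ) _ h6 x.val (by omega)).2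
    have e2 := (ev_spec JTwoPerm.sound _ h6 x.val x.isLt).2
    have hev : ∀ l : List ℕ, (∀ k ∈ l, k ∈ JTwoPerm.lev1.gens) → (∀ k ∈ l, k < 6) → ∀ i < 100,
        ev 8 pairTab l i = ev 7 JTwoPerm.tab l i ∧ ev 7 JTwoPerm.tab l i < 100 := by
      intro l
      induction l with
      | nil => exact fun _ _ i hi => ⟨rfl, hi⟩
      | cons a l ih =>
        intro h1 h2 i hi
        obtain ⟨r1, r2⟩ := ih (fun k hk => h1 k (List.mem_cons_of_mem _ hk))
          (fun k hk => h2 k (List.mem_cons_of_mem _ hk)) i hi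
        have h := List.all_eq_true.1 (List.all_eq_true.1 tab_left_ok a
          (List.mem_range.2 (h2 a List.mem_cons_self))) _ (List.mem_range.2 r2)
        rw [Nat.beq_eq, List.contains_iff_mem.2 (h1 a List.mem_cons_self), cond_true] at h
        exact ⟨by rw [ev, ev, r1, h], (JTwoPerm.sound a (h2 a List.mem_cons_self) _ r2).1⟩
    obtain ⟨r1, r2⟩ := hev _ hlet h6 x.val x.isLt
    rw [r1, pt_left φ hφ x.isLt, pt_left φ hφ r2, JTwoPerm.pt_val] at e1
    rw [MonoidHom.id_apply, JTwoPerm.pt_val] at e2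
    rw [e2]
    exact Sum.inl_injective e1
  have hgel : g.1.1 = wordEl JTwoPerm.gen (u ++ (v ++ w)) := by
    rw [wordEl_append]
    exact congrArg Subtype.val e
  have hgeq : g = ⟨wordEl (pairGen hF φ hφ) (u ++ (v ++ w)), wordEl_mem _ hlet⟩ :=
    (toPoints_bijective hF φ hφ).1 (Subtype.ext (hgel.trans hw'.symm))
  have hg2' : (wordEl (pairGen hF φ hφ) (u ++ (v ++ w))).2 = 1 := by rw [← hg2, hgeq]
  rcases hcase with ⟨i, hi, hne⟩ | hfix
  · exfalso
    have hi28 : i < 28 := by fin_cases hi <;> norm_num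
    obtain ⟨hlt, e1⟩ := ev_spec (sound hF φ hφ) _ h6 (100 + i) (by omega)
    have e2 : rho F (wordEl (pairGen hF φ hφ) (u ++ (v ++ w))) (pt φ hφ (100 + i)) =
        pt φ hφ (100 + i) := by
      rw [pt_right φ hφ (by omega) (by omega)]
      show Sum.inr ((wordEl (pairGen hF φ hφ) (u ++ (v ++ w))).2 _) = _
      rw [hg2']
      rfl
    have heq := injOn_pt φ hφ hlt (show 100 + i < 128 by omega) (e1.symm.trans e2)
    rw [heq] at hne
    simp at hne
  · have hone : (⟨g.1.1, gens_le hmem⟩ : JTwoPerm.jTwo) = 1 := by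
      refine JTwoPerm.eq_one_of_fix_bases fun b hb => ?_
      by_cases hb0 : b = 0
      · subst hb0; exact hst
      have hb' : b ∈ [1, 38, 2] := by fin_cases hb <;> first | exact absurd rfl hb0 | simp
      have hblt : b < 100 := by fin_cases hb' <;> norm_num
      have e1 := (ev_spec (sound hF φ hφ) _ h6 b (by omega)).2
      rw [hfix b hb', pt_left φ hφ hblt] at e1
      show g.1.1 (JTwoPerm.pt b) = JTwoPerm.pt b
      rw [hgeq]
      exact Sum.inl_injective e1
    exact congrArg Subtype.val hone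

include hF in
theorem natCard_psu : Nat.card (Cfsg.PSU 3 F 3) = 6048 := by
  have h := Unitary.card_PSU (n := 3) hF (by norm_num)
  simp [Finset.prod_range_succ, Nat.even_iff] at h
  omega

include hF φ hφ in
theorem nonempty_gens_equiv : Nonempty (sub JTwoPerm.gen JTwoPerm.lev1.gens ≃* Cfsg.PSU 3 F 3) := by
  have := finite_isoLine F
  obtain ⟨eR⟩ := nonempty_range_permHom (n := 3) (p := 3) hF (by norm_num)
  have hbij : Function.Bijective (toLines hF φ hφ) :=
    (Nat.bijective_iff_injective_and_card _).2 ⟨toLines_injective hF φ hφ, by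
      rw [natCard_pairGroup, Nat.card_congr eR.toEquiv, natCard_psu hF]⟩
  exact ⟨((MulEquiv.ofBijective _ (toPoints_bijective hF φ hφ)).symm.trans
    (MulEquiv.ofBijective _ hbij)).trans eR⟩

include hF in
/-- The stabiliser of a point is `PSU(3,3)`. -/
theorem nonempty_stabilizer_equiv :
    Nonempty (stabilizer JTwoPerm.jTwo (JTwoPerm.pt 0) ≃* Cfsg.PSU 3 F 3) := by
  obtain ⟨φ, hφ⟩ := exists_hom hF
  obtain ⟨e⟩ := nonempty_gens_equiv hF φ hφ
  exact ⟨((MulEquiv.subgroupCongr stabilizer_eq).trans (Subgroup.subgroupOfEquivOfLe gens_le)).trans e⟩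

theorem suborbits_invariant :
    (JTwoPerm.lev1.words ++ (JTwoPerm.lev2.words ++ JTwoPerm.lev3.words)).all (fun l =>
      l.all (fun k => Nat.blt k 6) && (List.range' 1 99).all fun i =>
        Nat.blt 0 (ev 7 JTwoPerm.tab l i) && Nat.blt (ev 7 JTwoPerm.tab l i) 100 &&
          Nat.blt i 37 == Nat.blt (ev 7 JTwoPerm.tab l i) 37) = true := by
  decide +kernel

/-- The orbit of the point `r` under the stabiliser of `0`. -/
theorem orbit_eq {r : ℕ} {ws : List (List ℕ)} {l : List ℕ}
    (hok : JTwoPerm.orbitOK r ws l = true) (hfix : ∀ w ∈ ws, ev 7 JTwoPerm.tab w 0 = 0)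
    (hr : 1 ≤ r ∧ r < 100) (hl : ∀ i, 1 ≤ i → i < 100 → (i < 37 ↔ r < 37) → i ∈ l)
    (hl' : ∀ i ∈ l, i < 100) :
    orbit (stabilizer JTwoPerm.jTwo (JTwoPerm.pt 0)) (JTwoPerm.pt r) = JTwoPerm.pt '' {i | i ∈ l} := by
  ext x
  constructor
  · rintro ⟨⟨g, hg⟩, rfl⟩
    obtain ⟨u, hu, v, hv, w, hw, hul, hvw, e⟩ := JTwoPerm.stab_words hg
    have hs := suborbits_invariant
    simp only [List.all_eq_true, Bool.and_eq_true, Nat.blt_eq, List.mem_range'_1, beq_iff_eq] at hs
    have step : ∀ a ∈ JTwoPerm.lev1.words ++ (JTwoPerm.lev2.words ++ JTwoPerm.lev3.words), ∀ i,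
        1 ≤ i → i < 100 → 1 ≤ ev 7 JTwoPerm.tab a i ∧ ev 7 JTwoPerm.tab a i < 100 ∧
          (ev 7 JTwoPerm.tab a i < 37 ↔ i < 37) := by
      intro a ha i h1 h2
      obtain ⟨⟨p1, p2⟩, p3⟩ := (hs a ha).2 i ⟨h1, by omega⟩
      refine ⟨p1, p2, ?_⟩
      rw [← Nat.blt_eq, ← Nat.blt_eq, p3]
    obtain ⟨a1, a2, a3⟩ := step w (by simp [hw]) r hr.1 hr.2
    obtain ⟨b1, b2, b3⟩ := step v (by simp [hv]) _ a1 a2
    obtain ⟨c1, c2, c3⟩ := step u (by simp [hu]) _ b1 b2
    refine ⟨_, hl _ c1 c2 (c3.trans (b3.trans a3)), ?_⟩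
    show _ = g • JTwoPerm.pt r
    rw [e, mul_smul, JTwoPerm.el_apply _ hvw hr.2, ev_append, JTwoPerm.el_apply _ hul b2]
  · rintro ⟨i, hi, rfl⟩
    obtain ⟨w, hw, hw', e⟩ := JTwoPerm.orbit_spec hr.2 hok hi
    refine ⟨⟨JTwoPerm.el w hw', ?_⟩, e⟩
    rw [mem_stabilizer_iff, JTwoPerm.el_apply w hw' (by norm_num), hfix w hw]

theorem ncard_image_range' {a n : ℕ} (h : a + n ≤ 100) :
    (JTwoPerm.pt '' {i | i ∈ List.range' a n}).ncard = n := by
  rw [Set.InjOn.ncard_image]
  · rw [show {i | i ∈ List.range' a n} = ((List.range' a n).toFinset : Set ℕ) from by ext; simp,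
      Set.ncard_coe_finset, List.toFinset_card_of_nodup List.nodup_range', List.length_range']
  · intro i hi j hj e
    simp only [Set.mem_ofPred_eq, List.mem_range'_1] at hi hj
    exact JTwoPerm.pt_injOn (show i < 100 by omega) (show j < 100 by omega) e

theorem ncard_orbit_one :
    (orbit (stabilizer JTwoPerm.jTwo (JTwoPerm.pt 0)) (JTwoPerm.pt 1)).ncard = 36 := by
  have h := JTwoPerm.suborbit_ok
  simp only [Bool.and_eq_true, JTwoPerm.fixOK, List.all_eq_true, beq_iff_eq] at h
  rw [orbit_eq h.1.1 h.1.2 (by norm_num)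
    (fun i h1 h2 h3 => List.mem_range'_1.2 ⟨h1, by have := h3.2 (by norm_num); omega⟩)
    (fun i hi => by have := List.mem_range'_1.1 hi; omega), ncard_image_range' (by norm_num)]

theorem ncard_orbit_thirty_seven :
    (orbit (stabilizer JTwoPerm.jTwo (JTwoPerm.pt 0)) (JTwoPerm.pt 37)).ncard = 63 := by
  have h := JTwoPerm.suborbit_ok
  simp only [Bool.and_eq_true, JTwoPerm.fixOK, List.all_eq_true, beq_iff_eq] at h
  rw [orbit_eq h.2.1 h.2.2 (by norm_num)
    (fun i h1 h2 h3 => List.mem_range'_1.2 ⟨by have := h3.1; omega, by omega⟩)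
    (fun i hi => by have := List.mem_range'_1.1 hi; omega), ncard_image_range' (by norm_num)]

end Cfsg.Agent.PointStab
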