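import Mathlib
import Cfsg.Agent.EqLemmas

/-!
# The set of element orders shared by `S₈` and the Hall-Janko group

* `InSpec` : divides one of seven, eight, ten, twelve, fifteen
* `range_orderOf_eq` : a criterion for this to be the set of element orders
-/

set_option autoImplicit false

namespace Cfsg.Agent.EightSpec

/-- The maximal element orders. -/
def maxOrders : List ℕ := [7, 8, 10, 12, 15]

/-- Divides one of the maximal element orders. -/
def InSpec (n : ℕ) : Prop := ∃ m ∈ maxOrders, n ∣ m

theorem inSpec_of_pow_eq_one {G : Type*} [Monoid G] {g : G} {m : ℕ} (hm : m ∈ maxOrders)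
    (h : g ^ m = 1) : InSpec (orderOf g) :=
  ⟨m, hm, orderOf_dvd_of_pow_eq_one h⟩

theorem range_orderOf_eq {G : Type*} [Group G] (h1 : ∀ g : G, InSpec (orderOf g))
    (h2 : ∀ m ∈ maxOrders, ∃ g : G, orderOf g = m) :
    Set.range (orderOf : G → ℕ) = {n | InSpec n} := by
  refine Set.Subset.antisymm ?_ ?_
  · rintro _ ⟨g, rfl⟩
    exact h1 g
  · rintro n ⟨m, hm, hd⟩
    obtain ⟨g, hg⟩ := h2 m hm
    have hm0 : m ≠ 0 := by rintro rfl; simp [maxOrders] at hm
    exact ⟨g ^ (orderOf g / n), orderOf_pow_orderOf_div (hg ▸ hm0) (hg ▸ hd)⟩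

theorem range_orderOf_congr {G H : Type*} [Group G] [Group H] (e : G ≃* H) :
    Set.range (orderOf : G → ℕ) = Set.range (orderOf : H → ℕ) := by
  rw [show (orderOf : G → ℕ) = orderOf ∘ e from funext fun g => (e.orderOf_eq g).symm,
    e.surjective.range_comp]

end Cfsg.Agent.EightSpec
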