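import Cfsg.Agent.Lib.JTwoPerm.Basic
import Cfsg.Agent.Lib.IcosianGroup.SpecData
import Cfsg.Agent.Lib.IcosianGroup.SpecBasic

/-!
# Element orders of the Hall-Janko group on a hundred points

Every element is conjugate to a product of a representative `t` moving `0` to `0`, `1` or `37` and
of transversal elements of the stabiliser of `0`; for each of these products an exponent is checked.

* `stab_words` : the stabiliser of `0` by transversals
* `range_orderOf_jTwo` : the element orders
-/

set_option autoImplicit false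
set_option maxRecDepth 100000

namespace Cfsg.Agent.JTwoPerm

open Cfsg.Agent.StabCert Cfsg.Agent.EightSpec MulAction

theorem el_append {l l' : List ℕ} (hl : ∀ k ∈ l, k < 6) (hl' : ∀ k ∈ l', k < 6)
    (h : ∀ k ∈ l ++ l', k < 6) : el (l ++ l') h = el l hl * el l' hl' :=
  Subtype.ext (wordEl_append gen l l')

theorem pt_eq_iff {i j : ℕ} (hi : i < 100) (hj : j < 100) : pt i = pt j ↔ i = j :=
  ⟨fun e => pt_injOn hi hj e, fun e => by rw [e]⟩

theorem el_smul_inj {l l' : List ℕ} {hl : ∀ k ∈ l, k < 6} {hl' : ∀ k ∈ l', k < 6} {i j : ℕ}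
    (hi : i < 100) (hj : j < 100) (h : el l hl • pt i = el l' hl' • pt j) :
    ev 7 tab l i = ev 7 tab l' j := by
  rw [el_apply l hl hi, el_apply l' hl' hj] at h
  exact (pt_eq_iff (ev_spec sound l hl i hi).1 (ev_spec sound l' hl' j hj).1).1 h

/-- The words use the six letters and fix some points. -/
def wordsFix (ws : List (List ℕ)) (fixed : List ℕ) : Bool :=
  ws.all fun l => (l.all fun k => Nat.blt k 6) && fixed.all fun b => ev 7 tab l b == b

theorem levels_ok :
    (wordsFix lev1.words [0] && (wordsFix lev2.words [0, 1] && (wordsFix lev3.words [0, 1, 38] &&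
    (distinctFrom (lev1.words.map fun l => ev 7 tab l 1) 0 &&
    (distinctFrom (lev2.words.map fun l => ev 7 tab l 38) 0 &&
    distinctFrom (lev3.words.map fun l => ev 7 tab l 2) 0))))) = true := by
  decide +kernel

theorem wordsFix_spec {ws : List (List ℕ)} {fixed : List ℕ} (h : wordsFix ws fixed = true) :
    ∀ l ∈ ws, (∀ k ∈ l, k < 6) ∧ ∀ b ∈ fixed, ev 7 tab l b = b := by
  simpa [wordsFix, List.all_eq_true] using h

theorem index_inj {ws : List (List ℕ)} {b : ℕ} (h : distinctFrom (ws.map fun l => ev 7 tab l b) 0 = true)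
    (i j : Fin ws.length) (e : ev 7 tab ws[i.val] b = ev 7 tab ws[j.val] b) : i = j :=
  Fin.ext (((distinctFrom_spec _ _ h).1.getElem_inj_iff (i := i.val) (j := j.val)
    (hi := by simp) (hj := by simp)).1 (by simpa using e))

theorem natCard_stabilizer : Nat.card (stabilizer jTwo (pt 0)) = 6048 := by
  have h := (stabilizer jTwo (pt 0)).index_mul_card
  rw [index_stabilizer_of_transitive jTwo (pt 0), Nat.card_fin, natCard_jTwo] at h
  omega

/-- The stabiliser of the first point by transversals. -/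
theorem stab_words {g : jTwo} (hg : g • pt 0 = pt 0) :
    ∃ u ∈ lev1.words, ∃ v ∈ lev2.words, ∃ w ∈ lev3.words, ∃ hu : ∀ k ∈ u, k < 6,
      ∃ hvw : ∀ k ∈ v ++ w, k < 6, g = el u hu * el (v ++ w) hvw := by
  have h := levels_ok
  simp only [Bool.and_eq_true] at h
  obtain ⟨h1, h2, h3, d1, d2, d3⟩ := h
  have f1 := fun i : Fin lev1.words.length => wordsFix_spec h1 _ (List.getElem_mem i.isLt)
  have f2 := fun i : Fin lev2.words.length => wordsFix_spec h2 _ (List.getElem_mem i.isLt)
  have f3 := fun i : Fin lev3.words.length => wordsFix_spec h3 _ (List.getElem_mem i.isLt)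
  have hfix : ∀ l (hl : ∀ k ∈ l, k < 6) b, b < 100 → ev 7 tab l b = b → el l hl • pt b = pt b := by
    intro l hl b hb e; rw [el_apply l hl hb, e]
  let F : Fin lev1.words.length × Fin lev2.words.length × Fin lev3.words.length →
      stabilizer jTwo (pt 0) := fun p =>
    ⟨el _ (f1 p.1).1 * (el _ (f2 p.2.1).1 * el _ (f3 p.2.2).1), by
      rw [mem_stabilizer_iff, mul_smul, mul_smul,
        hfix _ (f3 _).1 0 (by norm_num) ((f3 _).2 0 (by simp)),
        hfix _ (f2 _).1 0 (by norm_num) ((f2 _).2 0 (by simp)),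
        hfix _ (f1 _).1 0 (by norm_num) ((f1 _).2 0 (by simp))]⟩
  have hF : Function.Injective F := by
    rintro ⟨i, j, k⟩ ⟨i', j', k'⟩ e
    have e' : el _ (f1 i).1 * (el _ (f2 j).1 * el _ (f3 k).1) =
        el _ (f1 i').1 * (el _ (f2 j').1 * el _ (f3 k').1) := congrArg Subtype.val e
    have ei : i = i' := by
      have := congrArg (fun x : jTwo => x • pt 1) e'
      simp only [mul_smul] at this
      rw [hfix _ (f3 _).1 1 (by norm_num) ((f3 _).2 1 (by simp)),
        hfix _ (f2 _).1 1 (by norm_num) ((f2 _).2 1 (by simp)),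
        hfix _ (f3 _).1 1 (by norm_num) ((f3 _).2 1 (by simp)),
        hfix _ (f2 _).1 1 (by norm_num) ((f2 _).2 1 (by simp))] at this
      exact index_inj d1 i i' (el_smul_inj (by norm_num) (by norm_num) this)
    subst ei
    have e2 := mul_left_cancel e'
    have ej : j = j' := by
      have := congrArg (fun x : jTwo => x • pt 38) e2
      simp only [mul_smul] at this
      rw [hfix _ (f3 _).1 38 (by norm_num) ((f3 _).2 38 (by simp)),
        hfix _ (f3 _).1 38 (by norm_num) ((f3 _).2 38 (by simp))] at this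
      exact index_inj d2 j j' (el_smul_inj (by norm_num) (by norm_num) this)
    subst ej
    have ek : k = k' := index_inj d3 k k'
      (el_smul_inj (by norm_num) (by norm_num) (congrArg (fun x : jTwo => x • pt 2) (mul_left_cancel e2)))
    rw [ek]
  have hbij : Function.Bijective F := (Nat.bijective_iff_injective_and_card F).2 ⟨hF, by
    rw [Nat.card_prod, Nat.card_prod, Nat.card_fin, Nat.card_fin, Nat.card_fin, natCard_stabilizer]
    decide +kernel⟩
  obtain ⟨⟨i, j, k⟩, e⟩ := hbij.2 ⟨g, hg⟩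
  refine ⟨_, List.getElem_mem i.isLt, _, List.getElem_mem j.isLt, _, List.getElem_mem k.isLt, (f1 i).1,
    fun a ha => (List.mem_append.1 ha).elim ((f2 j).1 a) ((f3 k).1 a), ?_⟩
  rw [el_append (f2 j).1 (f3 k).1]
  exact (congrArg Subtype.val e).symm

/-- The representatives. -/
def repWords : List (List ℕ) := repIdx.map fun j => lev0.words.getD j []

/-- Left halves of the products. -/
def xWords : List (List ℕ) := repWords.flatMap fun t => lev1.words.map fun u => t ++ u

/-- Right halves of the products. -/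
def yWords : List (List ℕ) := lev2.words.flatMap fun v => lev3.words.map fun w => v ++ w

/-- The tables are those of the words. -/
def matchAll : List (List ℕ) → List ℕ → Bool
  | [], _ => true
  | _ :: _, [] => false
  | l :: ls, T :: Ts => ((l.all fun k => Nat.blt k 6) &&
      (List.range 100).all fun i => look 7 T i == ev 7 tab l i) && matchAll ls Ts

theorem matchAll_spec : ∀ (ls : List (List ℕ)) (Ts : List ℕ), matchAll ls Ts = true →
    ∀ l ∈ ls, (∀ k ∈ l, k < 6) ∧ ∃ T ∈ Ts, ∀ i < 100, look 7 T i = ev 7 tab l i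
  | [], _, _, l, hl => absurd hl List.not_mem_nil
  | _ :: _, [], h, _, _ => by simp [matchAll] at h
  | l :: ls, T :: Ts, h, x, hx => by
    simp only [matchAll, Bool.and_eq_true, List.all_eq_true, beq_iff_eq, Nat.blt_eq, List.mem_range] at h
    rcases List.mem_cons.1 hx with rfl | hx
    · exact ⟨h.1.1, T, List.mem_cons_self, h.1.2⟩
    · obtain ⟨h', T', hT', e⟩ := matchAll_spec ls Ts h.2 x hx
      exact ⟨h', T', List.mem_cons_of_mem _ hT', e⟩

/-- The image of a point under a power. -/
noncomputable def cyc (f : ℕ → ℕ) (m b : ℕ) : ℕ := Nat.rec b (fun _ r => f r) m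

theorem cyc_zero (f : ℕ → ℕ) (b : ℕ) : cyc f 0 b = b := rfl

theorem cyc_succ (f : ℕ → ℕ) (m b : ℕ) : cyc f (m + 1) b = f (cyc f m b) := rfl

/-- The base points. -/
def bases : List ℕ := [0, 1, 38, 2]

/-- The product of two tables has the stated exponent. -/
noncomputable def fixedBy (T S m : ℕ) : Bool :=
  bases.all fun b => Nat.beq (cyc (fun i => look 7 T (look 7 S i)) m b) b

/-- A row of exponents. -/
noncomputable def rowOK (T M : ℕ) : List ℕ → ℕ → Bool
  | [], _ => true
  | S :: Ss, j => (maxOrders.contains (look 4 M j) && fixedBy T S (look 4 M j)) && rowOK T M Ss (Nat.succ j)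

/-- All rows. -/
noncomputable def rowsOK : List ℕ → List ℕ → Bool
  | [], _ => true
  | _ :: _, [] => false
  | T :: Ts, M :: Ms => rowOK T M yTab 0 && rowsOK Ts Ms

theorem rowOK_spec (T M : ℕ) : ∀ (Ss : List ℕ) (j : ℕ), rowOK T M Ss j = true →
    ∀ S ∈ Ss, ∃ m ∈ maxOrders, fixedBy T S m = true
  | [], _, _, S, hS => absurd hS List.not_mem_nil
  | S :: Ss, j, h, x, hx => by
    simp only [rowOK, Bool.and_eq_true, List.contains_iff_mem] at h
    rcases List.mem_cons.1 hx with rfl | hx
    · exact ⟨_, h.1.1, h.1.2⟩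
    · exact rowOK_spec T M Ss _ h.2 x hx

theorem rowsOK_spec : ∀ (Ts Ms : List ℕ), rowsOK Ts Ms = true →
    ∀ T ∈ Ts, ∀ S ∈ yTab, ∃ m ∈ maxOrders, fixedBy T S m = true
  | [], _, _, T, hT => absurd hT List.not_mem_nil
  | _ :: _, [], h, _, _ => by simp [rowsOK] at h
  | T :: Ts, M :: Ms, h, x, hx => by
    simp only [rowsOK, Bool.and_eq_true] at h
    rcases List.mem_cons.1 hx with rfl | hx
    · exact rowOK_spec _ M _ _ h.1
    · exact rowsOK_spec Ts Ms h.2 x hx

theorem match_ok : (matchAll xWords xTab && matchAll yWords yTab) = true := by decide +kernel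

theorem exp_ok : rowsOK xTab expTab = true := by decide +kernel

theorem pow_smul_cyc (a : jTwo) (f : ℕ → ℕ) (hf : ∀ i < 100, f i < 100 ∧ a • pt i = pt (f i)) :
    ∀ (m b : ℕ), b < 100 → cyc f m b < 100 ∧ (a ^ m) • pt b = pt (cyc f m b)
  | 0, b, hb => ⟨hb, by rw [pow_zero, one_smul, cyc_zero]⟩
  | m + 1, b, hb => by
    obtain ⟨h1, h2⟩ := pow_smul_cyc a f hf m b hb
    obtain ⟨h3, h4⟩ := hf _ h1
    exact ⟨h3, by rw [pow_succ', mul_smul, h2, h4, cyc_succ]⟩

theorem eq_one_of_fix_bases {g : jTwo} (h : ∀ b ∈ bases, g • pt b = pt b) : g = 1 := by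
  have hc := chain_spec (G := Equiv.Perm (Fin 100)) (ρ := MonoidHom.id _) sound pt_injOn
    (fun β hβ => List.mem_range.1 hβ) (fun g _ hg => Equiv.ext fun x => by
      have := hg x (List.mem_range.2 x.isLt)
      rw [pt_val] at this
      simpa using this) _ chain_ok
  rw [chain_gens] at hc
  refine Subtype.ext (hc.2.2 g g.2 fun L hL => ?_)
  refine h L.b ?_
  have : L.b ∈ [lev0, lev1, lev2, lev3].map fun L => L.b := List.mem_map_of_mem hL
  exact this

theorem inSpec_prod {x y : List ℕ} (hx : x ∈ xWords) (hy : y ∈ yWords) (h1 : ∀ k ∈ x, k < 6)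
    (h2 : ∀ k ∈ y, k < 6) : InSpec (orderOf (el x h1 * el y h2)) := by
  have hm := match_ok
  rw [Bool.and_eq_true] at hm
  obtain ⟨-, T, hT, eT⟩ := matchAll_spec _ _ hm.1 x hx
  obtain ⟨-, S, hS, eS⟩ := matchAll_spec _ _ hm.2 y hy
  obtain ⟨m, hmem, hfix⟩ := rowsOK_spec _ _ exp_ok T hT S hS
  simp only [fixedBy, List.all_eq_true, Nat.beq_eq] at hfix
  refine inSpec_of_pow_eq_one hmem (eq_one_of_fix_bases fun b hb => ?_)
  have hb' : b < 100 := by
    fin_cases hb <;> norm_num
  have hf : ∀ i < 100, look 7 T (look 7 S i) < 100 ∧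
      (el x h1 * el y h2) • pt i = pt (look 7 T (look 7 S i)) := by
    intro i hi
    have hs : look 7 S i < 100 := by rw [eS i hi]; exact (ev_spec sound y h2 i hi).1
    refine ⟨by rw [eT _ hs]; exact (ev_spec sound x h1 _ hs).1, ?_⟩
    rw [mul_smul, el_apply y h2 hi, ← eS i hi, el_apply x h1 hs, ← eT _ hs]
  rw [(pow_smul_cyc _ _ hf m b hb').2, hfix b hb]

theorem reps_ok : (repWords.map fun t => ev 7 tab t 0) = [0, 1, 37] := by decide +kernel

/-- Every element order is among those of the list. -/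
theorem inSpec_jTwo (g : jTwo) : InSpec (orderOf g) := by
  have hs := suborbit_ok
  simp only [Bool.and_eq_true, fixOK, List.all_eq_true, beq_iff_eq] at hs
  obtain ⟨x, hx, hgx⟩ : ∃ x < 100, g • pt 0 = pt x := ⟨_, (g • pt 0).isLt, (pt_val _).symm⟩
  have key : ∀ (r : ℕ), r ∈ [0, 1, 37] → ∀ c : jTwo, (c * g * c⁻¹) • pt 0 = pt r →
      InSpec (orderOf g) := by
    intro r hr c hc
    rw [← reps_ok, List.mem_map] at hr
    obtain ⟨t, ht, rfl⟩ := hr
    obtain ⟨u0, hu0⟩ : ∃ u, u ∈ lev1.words := ⟨[], by decide⟩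
    have htl : ∀ k ∈ t, k < 6 := fun k hk => by
      have hm := match_ok
      rw [Bool.and_eq_true] at hm
      exact (matchAll_spec _ _ hm.1 (t ++ u0) (List.mem_flatMap.2 ⟨t, ht, List.mem_map_of_mem hu0⟩)).1 k
        (List.mem_append_left _ hk)
    obtain ⟨u, hu, v, hv, w, hw, hul, hvw, e⟩ := stab_words (g := (el t htl)⁻¹ * (c * g * c⁻¹)) (by
      rw [mul_smul, hc, ← el_apply t htl (by norm_num), inv_smul_smul])
    have e' : c * g * c⁻¹ = el (t ++ u) (fun k hk => (List.mem_append.1 hk).elim (htl k) (hul k)) *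
        el (v ++ w) hvw := by
      rw [el_append htl hul, mul_assoc (el t htl), ← e, mul_inv_cancel_left]
    have := inSpec_prod (List.mem_flatMap.2 ⟨t, ht, List.mem_map_of_mem hu⟩)
      (List.mem_flatMap.2 ⟨v, hv, List.mem_map_of_mem hw⟩)
      (fun k hk => (List.mem_append.1 hk).elim (htl k) (hul k)) hvw
    rwa [← e', ← MulAut.conj_apply, MulEquiv.orderOf_eq] at this
  have move : ∀ r ws l, orbitOK r ws l = true → (∀ w ∈ ws, ev 7 tab w 0 = 0) → r < 100 →
      x ∈ l → r ∈ [0, 1, 37] → InSpec (orderOf g) := by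
    intro r ws l hok hfix hr hxl hmem
    obtain ⟨w, hw, hwl, e⟩ := orbit_spec hr hok hxl
    refine key r hmem (el w hwl)⁻¹ ?_
    have e0 : el w hwl • pt 0 = pt 0 := by rw [el_apply w hwl (by norm_num), hfix w hw]
    rw [inv_inv, mul_smul, mul_smul, e0, hgx, ← e, inv_smul_smul]
  rcases Nat.eq_zero_or_pos x with rfl | h0
  · exact key 0 (by simp) 1 (by simpa using hgx)
  · rcases Nat.lt_or_ge x 37 with h | h
    · exact move 1 _ _ hs.1.1 hs.1.2 (by norm_num) (List.mem_range'_1.2 ⟨h0, by omega⟩) (by simp)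
    · exact move 37 _ _ hs.2.1 hs.2.2 (by norm_num) (List.mem_range'_1.2 ⟨by omega, by omega⟩) (by simp)

/-- The witnesses have the stated orders. -/
noncomputable def witOK (p : ℕ × List ℕ) : Bool :=
  ((p.2.all fun k => Nat.blt k 6) && Nat.blt 0 p.1) &&
    ((bases.all fun b => Nat.beq (cyc (ev 7 tab p.2) p.1 b) b) &&
    ((List.range' 1 (p.1 - 1)).all fun k => bases.any fun b => !Nat.beq (cyc (ev 7 tab p.2) k b) b))

theorem wit_ok : (witWords.all witOK && maxOrders == witWords.map Prod.fst) = true := by decide +kernel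

theorem exists_orderOf_jTwo (m : ℕ) (hm : m ∈ maxOrders) : ∃ g : jTwo, orderOf g = m := by
  have h := wit_ok
  simp only [Bool.and_eq_true, beq_iff_eq, List.all_eq_true] at h
  rw [h.2, List.mem_map] at hm
  obtain ⟨⟨m', l⟩, hp, rfl⟩ := hm
  have := h.1 _ hp
  simp only [witOK, Bool.and_eq_true, List.all_eq_true, Nat.blt_eq, Nat.beq_eq, List.any_eq_true,
    Bool.not_eq_true', List.mem_range'_1] at this
  obtain ⟨⟨hl, hpos⟩, hfix, hmove⟩ := this
  have hb100 : ∀ b ∈ bases, b < 100 := by intro b hb; fin_cases hb <;> norm_num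
  have hpow := pow_smul_cyc (el l hl) (ev 7 tab l)
    (fun i hi => ⟨(ev_spec sound l hl i hi).1, el_apply l hl hi⟩)
  refine ⟨el l hl, (orderOf_eq_iff hpos).2 ⟨eq_one_of_fix_bases fun b hb => ?_, fun k hk hk0 e => ?_⟩⟩
  · rw [(hpow m' b (hb100 b hb)).2, hfix b hb]
  · obtain ⟨b, hb, hne⟩ := hmove k ⟨hk0, by omega⟩
    obtain ⟨h1, h2⟩ := hpow k b (hb100 b hb)
    rw [e, one_smul] at h2
    rw [← (pt_eq_iff (hb100 b hb) h1).1 h2] at hne
    simp at hne

theorem range_orderOf_jTwo : Set.range (orderOf : jTwo → ℕ) = {n | InSpec n} :=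
  range_orderOf_eq inSpec_jTwo exists_orderOf_jTwo

end Cfsg.Agent.JTwoPerm
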